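import Groth.Agent.H4DR.TorAmp.Modules
import Groth.Agent.H8Props.PseudoCoh.PerfectModule
import Mathlib.Data.Int.Interval

/-!
# Perfect objects: pseudo-coherent of finite tor amplitude
-/

set_option autoImplicit false
set_option linter.style.haveILetI false

universe u

open CategoryTheory CategoryTheory.Limits MonoidalCategory Pretriangulated
open Groth.Agent.H16Derived

attribute [local instance] HasDerivedCategory.standard

namespace Groth.Agent.H4DR.TorAmp

variable {R : Type u} [CommRing R]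

/-- Perfect amplitude. -/
def PF (m n : ℤ) (K : Dual.D R) : Prop :=
  ∃ E : DRing.Cx R, DRing.VanishesOutside E m n ∧ DRing.TermwiseFiniteProjective E ∧
    Nonempty (DRing.toD E ≅ K)

lemma finiteProjective_of_isZero {M : ModuleCat.{u} R} (h : IsZero M) :
    Module.Finite R M ∧ Module.Projective R M :=
  haveI := ModuleCat.subsingleton_of_isZero h
  ⟨inferInstance, inferInstance⟩

lemma finiteProjective_of_iso {M N : ModuleCat.{u} R} (e : M ≅ N)
    (h : Module.Finite R M ∧ Module.Projective R M) : Module.Finite R N ∧ Module.Projective R N :=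
  haveI := h.1
  haveI := h.2
  ⟨Module.Finite.equiv e.toLinearEquiv, Module.Projective.of_equiv e.toLinearEquiv⟩

lemma finite_projective_ker {P : DRing.Cx R} {c : ℤ} (hb : DRing.VanishesAbove P c)
    (hP : DRing.TermwiseFiniteProjective P) (b : ℤ) (hex : ∀ i, b < i → P.ExactAt i) (i : ℤ)
    (hi : b ≤ i) : Module.Finite R (LinearMap.ker (P.d i (i + 1)).hom) ∧
      Module.Projective R (LinearMap.ker (P.d i (i + 1)).hom) := by
  have hP' : IsProjRep P c := ⟨hb, fun j => (hP j).2⟩
  haveI := projective_ker_of_exact hP' b hex (c - i).toNat i hi (by omega)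
  haveI := projective_ker_of_exact hP' b hex (c - i).toNat (i + 1) (by omega) (by omega)
  refine ⟨?_, inferInstance⟩
  let g : P.X i →ₗ[R] LinearMap.ker (P.d (i + 1) (i + 1 + 1)).hom :=
    (P.d i (i + 1)).hom.codRestrict _ fun x =>
      LinearMap.mem_ker.2 (congr($(P.d_comp_d i (i + 1) (i + 1 + 1)).hom x))
  have hg : Function.Surjective g := fun ⟨y, hy⟩ => by
    have h := (HomologicalComplex.exactAt_iff' P i (i + 1) (i + 1 + 1) (by simp) (by simp)).1
      (hex (i + 1) (by omega))
    rw [ShortComplex.ShortExact.moduleCat_exact_iff_function_exact] at h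
    obtain ⟨x, hx⟩ := (h y).1 (LinearMap.mem_ker.1 hy)
    exact ⟨x, Subtype.ext hx⟩
  obtain ⟨s, hs⟩ := Module.projective_lifting_property g LinearMap.id hg
  haveI := (hP i).1
  let r : P.X i →ₗ[R] LinearMap.ker (P.d i (i + 1)).hom :=
    (LinearMap.id - s ∘ₗ g).codRestrict _ fun x => LinearMap.mem_ker.2 (congrArg Subtype.val
      (show g (x - s (g x)) = 0 by
        rw [map_sub, ← LinearMap.comp_apply g s, hs, LinearMap.id_apply, sub_self]))
  refine Module.Finite.of_surjective r fun z => ⟨z, Subtype.ext ?_⟩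
  show (z : P.X i) - s (g z) = z
  rw [show g (z : P.X i) = 0 from Subtype.ext (LinearMap.mem_ker.1 z.2), map_zero, sub_zero]

/-- Cutting a complex of finite projective modules at the top. -/
lemma pf_top {P : DRing.Cx R} {m c : ℤ} (hz : DRing.VanishesOutside P m c)
    (hP : DRing.TermwiseFiniteProjective P) (b : ℤ) (hex : ∀ i, b < i → P.ExactAt i) :
    PF m b (DRing.toD P) := by
  have hb : DRing.VanishesAbove P c := fun i hi => hz i (Or.inr hi)
  refine ⟨P.truncLE b, fun i hi => ?_, fun i => ?_, ?_⟩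
  · rcases lt_trichotomy i b with h | rfl | h
    · exact (hz i (Or.inl (by omega))).of_iso (P.truncLEXIso b i h)
    · haveI := ModuleCat.subsingleton_of_isZero (hz i (Or.inl (by omega)))
      haveI : Subsingleton (ModuleCat.kernelCone (P.d i (i + 1))).pt :=
        inferInstanceAs (Subsingleton (LinearMap.ker (P.d i (i + 1)).hom))
      exact (ModuleCat.isZero_of_subsingleton (ModuleCat.kernelCone (P.d i (i + 1))).pt).of_iso
        (P.truncLEXIsoCycles i ≪≫ IsLimit.conePointUniqueUpToIso (P.cyclesIsKernel i (i + 1) (by simp))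
          (ModuleCat.kernelIsLimit (P.d i (i + 1))))
    · exact (P.truncLE b).isZero_of_isStrictlyLE b i h
  · rcases lt_trichotomy i b with h | rfl | h
    · exact finiteProjective_of_iso (P.truncLEXIso b i h).symm (hP i)
    · exact finiteProjective_of_iso (P.truncLEXIsoCycles i ≪≫
        IsLimit.conePointUniqueUpToIso (P.cyclesIsKernel i (i + 1) (by simp))
          (ModuleCat.kernelIsLimit (P.d i (i + 1)))).symm (finite_projective_ker hb hP i hex i le_rfl)
    · exact finiteProjective_of_isZero ((P.truncLE b).isZero_of_isStrictlyLE b i h)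
  · haveI : P.IsLE b := (CochainComplex.isLE_iff P b).2 hex
    exact ⟨asIso (DerivedCategory.Q.map (P.ιTruncLE b))⟩

/-- A pseudo-coherent object of tor amplitude in `[m, n]` has perfect amplitude in `[m, n]`. -/
theorem pf_of_pc_of_ta {m n : ℤ} {K : Dual.D R} (hK : DRing.IsPseudoCoherent R (m - 1) K)
    (hT : DRing.HasTorAmplitudeIn R m n K) : PF m n K := by
  haveI : K.IsGE m := (DerivedCategory.isGE_iff K m).2 fun i hi =>
    ModuleCat.isZero_of_iff_subsingleton.2 (bound_of_ta hT i (Or.inl hi))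
  obtain ⟨L, hL, ⟨eL⟩⟩ := DerivedCategory.exists_iso_Q_obj_of_isGE K m
  haveI := hL
  obtain ⟨E, α, ⟨a₀, c₀, hE, hF⟩, hα⟩ := PCoh.pc_iff.1 hK
  haveI : E.IsStrictlyLE c₀ := (CochainComplex.isStrictlyLE_iff E c₀).2 fun i hi => hE i (Or.inr hi)
  haveI : ∀ i, Projective (E.X i) := fun i => by
    haveI := (hF i).2
    infer_instance
  haveI := CochainComplex.isKProjective_of_projective E c₀
  obtain ⟨g, hg⟩ := ProjLift.Q_map_surjective E L (α ≫ eL.hom)
  have hgood : PCoh.Good (m - 1) (DerivedCategory.Q.map g) :=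
    hg ▸ hα.comp (PCoh.Good.of_iso _ eL.hom)
  have hqi : QuasiIso (CochainComplex.truncGEMap g m) := by
    rw [CochainComplex.quasiIso_truncGEMap_iff]
    intro i hi
    rw [quasiIsoAt_iff_isIso_homologyMap]
    have : IsIso ((PCoh.H R i).map (DerivedCategory.Q.map g)) :=
      (ConcreteCategory.isIso_iff_bijective _).2 ⟨hgood.2 i (by omega), hgood.1 i (by omega)⟩
    exact ((MorphismProperty.isomorphisms _).arrow_mk_iso_iff
      (((Functor.mapArrowFunctor _ _).mapIso
        (DerivedCategory.homologyFunctorFactors (ModuleCat.{u} R) i)).app (Arrow.mk _))).1 this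
  haveI := hqi
  let e : DRing.toD (E.truncGE m) ≅ K :=
    asIso (DerivedCategory.Q.map (CochainComplex.truncGEMap g m)) ≪≫
      (asIso (DerivedCategory.Q.map (L.πTruncGE m))).symm ≪≫ eL.symm
  have hTE : DRing.HasTorAmplitudeIn R m n (DRing.toD (E.truncGE m)) := ta_of_iso e.symm hT
  let C := max (max c₀ n) m
  have hz : DRing.VanishesOutside (E.truncGE m) m C := fun i hi => by
    rcases hi with hi | hi
    · exact (E.truncGE m).isZero_of_isStrictlyGE m i hi
    · exact (hE i (Or.inr (by omega))).of_iso (E.truncGEXIso m i (by omega))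
  set E' := E.truncGE m with hE'
  let T₀ := ShortComplex.mk (KFlat.Brutal.ι E' (m + 1)) _
    (cokernel.condition (KFlat.Brutal.ι E' (m + 1)))
  have hT₀ : T₀.ShortExact := KFlat.Brutal.shortExact E' (m + 1)
  have h₁ : DRing.HasTorAmplitudeIn R (m + 1) (C + 1) (DRing.toD (KFlat.Brutal.geq E' (m + 1))) := by
    refine ⟨_, fun i hi => ?_, fun i => ?_, ⟨Iso.refl _⟩⟩
    · by_cases h : m + 1 ≤ i
      · have := KFlat.Brutal.isIso_ι_f E' (m + 1) h
        exact (hz i (Or.inr (by omega))).of_iso (asIso ((KFlat.Brutal.ι E' (m + 1)).f i))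
      · exact KFlat.Brutal.isZero_geq E' _ (by omega)
    · by_cases h : m + 1 ≤ i
      · have := KFlat.Brutal.isIso_ι_f E' (m + 1) h
        haveI := (hF i).2
        exact Module.Flat.of_linearEquiv
          (asIso ((KFlat.Brutal.ι E' (m + 1)).f i) ≪≫ E.truncGEXIso m i (by omega)).toLinearEquiv
      · haveI := ModuleCat.subsingleton_of_isZero
          (KFlat.Brutal.isZero_geq E' (m + 1) (show i < m + 1 by omega))
        infer_instance
  have h₃ : DRing.HasTorAmplitudeIn R m C (DRing.toD (cokernel (KFlat.Brutal.ι E' (m + 1)))) :=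
    ta_obj₃ (a := m) (b := C) _ (DerivedCategory.triangleOfSES_distinguished hT₀) h₁
      (ta_mono le_rfl (by omega) hTE)
  have hzc : ∀ i, i ≠ m → IsZero ((cokernel (KFlat.Brutal.ι E' (m + 1))).X i) := fun i hi => by
    by_cases h : m + 1 ≤ i
    · exact KFlat.Brutal.isZero_cokernel E' _ h
    · have := KFlat.Brutal.isIso_cokernel_π E' (m + 1) (show i < m + 1 by omega)
      exact (hz i (Or.inl (by omega))).of_iso
        (asIso ((cokernel.π (KFlat.Brutal.ι E' (m + 1))).f i)).symm
  haveI : (cokernel (KFlat.Brutal.ι E' (m + 1))).IsStrictlyGE m :=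
    (CochainComplex.isStrictlyGE_iff _ m).2 fun q hq => hzc q (by omega)
  haveI : (cokernel (KFlat.Brutal.ι E' (m + 1))).IsStrictlyLE m :=
    (CochainComplex.isStrictlyLE_iff _ m).2 fun q hq => hzc q (by omega)
  obtain ⟨Y, ⟨eY⟩⟩ := CochainComplex.exists_iso_single (cokernel (KFlat.Brutal.ι E' (m + 1))) m
  have := KFlat.Brutal.isIso_cokernel_π E' (m + 1) (show m < m + 1 by omega)
  let eY' : E'.X m ≅ Y := asIso ((cokernel.π (KFlat.Brutal.ι E' (m + 1))).f m) ≪≫
    (HomologicalComplex.eval (ModuleCat.{u} R) (ComplexShape.up ℤ) m).mapIso eY ≪≫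
    HomologicalComplex.singleObjXSelf (ComplexShape.up ℤ) m Y
  have hY : Module.Flat R Y := flat_of_ta Y (ta_top (ta_of_shift (-m) (a' := m) (b' := C)
    (a := 0) (b := C - m) (by omega) (by omega)
    (ta_of_iso (DerivedCategory.Q.mapIso eY ≪≫ PCoh.singleIso Y m) h₃)) fun i hi =>
      PCoh.subsingleton_HD_inD Y i (by omega))
  have hFin : DRing.TermwiseFiniteProjective E' := fun i => by
    rcases lt_trichotomy m i with h | rfl | h
    · haveI := (hF i).1
      haveI := (hF i).2
      exact finiteProjective_of_iso (E.truncGEXIso m i h).symm ⟨(hF i).1, inferInstance⟩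
    · haveI := (hF m).1
      haveI := (hF m).2
      haveI := (hF (m - 1)).1
      haveI : Module.FinitePresentation R (E.X m) :=
        Module.finitePresentation_of_projective _ _
      let q := E.truncGEXIsoOpcycles m ≪≫
        IsColimit.coconePointUniqueUpToIso (E.opcyclesIsCokernel (m - 1) m (by simp))
          (ModuleCat.cokernelIsColimit (E.d (m - 1) m))
      haveI : Module.FinitePresentation R (ModuleCat.cokernelCocone (E.d (m - 1) m)).pt := by
        refine Module.finitePresentation_of_surjective _ (Submodule.mkQ_surjective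
          (LinearMap.range (E.d (m - 1) m).hom)) ?_
        erw [Submodule.ker_mkQ]
        rw [LinearMap.range_eq_map]
        exact Module.Finite.fg_top.map _
      haveI : Module.Flat R (ModuleCat.cokernelCocone (E.d (m - 1) m)).pt :=
        haveI := hY
        Module.Flat.of_linearEquiv (q.symm ≪≫ eY').toLinearEquiv
      exact finiteProjective_of_iso q.symm ⟨inferInstance, Module.Flat.projective_of_finitePresentation⟩
    · exact finiteProjective_of_isZero (hz i (Or.inl h))
  obtain ⟨P, h1, h2, ⟨h3⟩⟩ := pf_top hz hFin n fun i hi =>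
    (subsingleton_of_bound (bound_of_ta hTE i (Or.inr hi)))
  exact ⟨P, h1, h2, ⟨h3 ≪≫ e⟩⟩
where
  subsingleton_of_bound {W : DRing.Cx R} {i : ℤ} (h : Subsingleton (Dual.HD R (DRing.toD W) i)) :
      W.ExactAt i := by
    rw [HomologicalComplex.exactAt_iff_isZero_homology]
    exact (ModuleCat.isZero_of_iff_subsingleton.2 h).of_iso
      ((DerivedCategory.homologyFunctorFactors (ModuleCat.{u} R) i).app W).symm

lemma pc_single (M : ModuleCat.{u} R) [Module.Finite R M] [Module.Projective R M] (j : ℤ) :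
    DRing.IsPseudoCoherentModule R j M :=
  PCoh.pc_of_pc' (H8Props.PseudoCoh.isPseudoCoherentModule'_of_fpInf
    (H8Props.PseudoCoh.fpInf_of_finite_projective M)) j

theorem pc_of_pf {m n : ℤ} {K : Dual.D R} (h : PF m n K) : DRing.IsPseudoCoherent' R K := by
  obtain ⟨E, hE, hF, ⟨e⟩⟩ := h
  refine PCoh.pc'_of_forall fun j => PCoh.pc_of_iso e (PCoh.pc_of_terms (n + 1 - j).toNat
    (fun i hi => hE i (Or.inr (by omega))) fun i => ?_)
  haveI := (hF i).1
  haveI := (hF i).2
  exact pc_single (E.X i) _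

theorem ta_of_pf {m n : ℤ} {K : Dual.D R} (h : PF m n K) : DRing.HasTorAmplitudeIn R m n K := by
  obtain ⟨E, hE, hF, e⟩ := h
  exact ⟨E, hE, fun i => haveI := (hF i).2; inferInstance, e⟩

theorem pf_iff {m n : ℤ} {K : Dual.D R} :
    PF m n K ↔ DRing.IsPseudoCoherent R (m - 1) K ∧ DRing.HasTorAmplitudeIn R m n K :=
  ⟨fun h => ⟨PCoh.pc_of_pc' (pc_of_pf h) _, ta_of_pf h⟩, fun h => pf_of_pc_of_ta h.1 h.2⟩

theorem isPerfect_iff {K : Dual.D R} :
    DRing.IsPerfect R K ↔ DRing.IsPseudoCoherent' R K ∧ DRing.HasFiniteTorDimCx R K := by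
  refine ⟨?_, ?_⟩
  · rintro ⟨E, a, b, h₁, h₂, e⟩
    exact ⟨pc_of_pf ⟨E, h₁, h₂, e⟩, a, b, ta_of_pf ⟨E, h₁, h₂, e⟩⟩
  · rintro ⟨hK, a, b, h⟩
    obtain ⟨E, h₁, h₂, e⟩ := pf_of_pc_of_ta (PCoh.pc_of_pc' hK _) h
    exact ⟨E, a, b, h₁, h₂, e⟩

/-- Retracts of perfect objects. -/
theorem isPerfect_of_retract {K L : Dual.D R} (i : K ⟶ L) (r : L ⟶ K) (hir : i ≫ r = 𝟙 K)
    (h : DRing.IsPerfect R L) : DRing.IsPerfect R K := by
  obtain ⟨hL, a, b, hT⟩ := isPerfect_iff.1 h
  refine isPerfect_iff.2 ⟨PCoh.pc'_of_forall fun m => ?_, a, b, ta_of_retract i r hir hT⟩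
  obtain ⟨c, hc, hv⟩ := PCoh.exists_bound (PCoh.pc_of_pc' hL m)
  refine PCoh.pc_of_retract (c + 1 - m).toNat i r (by rw [hir]; infer_instance) (fun j hj => ?_)
    (PCoh.pc_of_pc' hL m)
  haveI := hv j (by omega)
  have h1 : Function.LeftInverse (PCoh.hm j r) (PCoh.hm j i) := fun x => by
    rw [← PCoh.hm_comp_apply, hir, PCoh.hm_id]; rfl
  exact h1.injective.subsingleton

lemma isPerfect_of_iso {K L : Dual.D R} (e : K ≅ L) (h : DRing.IsPerfect R K) :
    DRing.IsPerfect R L :=
  isPerfect_of_retract e.inv e.hom e.inv_hom_id h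

theorem isPerfect_shift {K : Dual.D R} (n : ℤ) (h : DRing.IsPerfect R K) :
    DRing.IsPerfect R (K⟦n⟧) := by
  obtain ⟨hK, a, b, hT⟩ := isPerfect_iff.1 h
  exact isPerfect_iff.2 ⟨PCoh.pc'_of_forall fun m =>
    PCoh.pc_shift n rfl (PCoh.pc_of_pc' hK (n + m)), a - n, b - n,
    ta_shift n (by omega) (by omega) hT⟩

theorem isPerfect_obj₃ (T : Triangle (Dual.D R)) (hT : T ∈ distTriang _)
    (h₁ : DRing.IsPerfect R T.obj₁) (h₂ : DRing.IsPerfect R T.obj₂) :
    DRing.IsPerfect R T.obj₃ := by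
  obtain ⟨hp₁, a₁, b₁, ht₁⟩ := isPerfect_iff.1 h₁
  obtain ⟨hp₂, a₂, b₂, ht₂⟩ := isPerfect_iff.1 h₂
  exact isPerfect_iff.2 ⟨PCoh.pc'_of_forall fun m =>
    PCoh.pc_obj₃ T hT (PCoh.pc_of_pc' hp₁ _) (PCoh.pc_of_pc' hp₂ _),
    min (a₁ - 1) a₂, max (b₁ - 1) b₂, ta_obj₃ T hT (ta_mono (by omega) (by omega) ht₁)
      (ta_mono (by omega) (by omega) ht₂)⟩

theorem isPerfect_obj₂ (T : Triangle (Dual.D R)) (hT : T ∈ distTriang _)
    (h₁ : DRing.IsPerfect R T.obj₁) (h₃ : DRing.IsPerfect R T.obj₃) :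
    DRing.IsPerfect R T.obj₂ :=
  isPerfect_obj₃ T.invRotate (inv_rot_of_distTriang _ hT) (isPerfect_shift _ h₃) h₁

theorem isPerfect_obj₁ (T : Triangle (Dual.D R)) (hT : T ∈ distTriang _)
    (h₂ : DRing.IsPerfect R T.obj₂) (h₃ : DRing.IsPerfect R T.obj₃) :
    DRing.IsPerfect R T.obj₁ :=
  isPerfect_of_iso (shiftShiftNeg T.obj₁ (1 : ℤ))
    (isPerfect_shift _ (isPerfect_obj₃ T.rotate (rot_of_distTriang _ hT) h₂ h₃))

/-- Finitely many finite tor amplitudes have a common interval. -/
lemma exists_common {ι : Type*} (s : Finset ι) (P : ι → Dual.D R)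
    (h : ∀ i ∈ s, DRing.HasFiniteTorDimCx R (P i)) :
    ∃ a b : ℤ, ∀ i ∈ s, DRing.HasTorAmplitudeIn R a b (P i) := by
  induction s using Finset.cons_induction with
  | empty => exact ⟨0, 0, fun i hi => absurd hi (by simp)⟩
  | cons x t hx ih =>
    obtain ⟨a, b, hab⟩ := ih fun i hi => h i (Finset.mem_cons_of_mem hi)
    obtain ⟨a', b', h'⟩ := h x (Finset.mem_cons_self x t)
    refine ⟨min a a', max b b', fun i hi => ?_⟩
    rcases Finset.mem_cons.1 hi with rfl | hi
    · exact ta_mono (by omega) (by omega) h'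
    · exact ta_mono (by omega) (by omega) (hab i hi)

/-- A bounded complex of perfect modules. -/
theorem isPerfect_of_terms {K : DRing.Cx R} {c d : ℤ} (hcd : DRing.VanishesOutside K c d)
    (hK : ∀ i, DRing.IsPerfectModule R (K.X i)) : DRing.IsPerfect R (DRing.toD K) := by
  obtain ⟨a, b, hab⟩ := exists_common (Finset.Icc c d) (fun i => Dual.inD R (K.X i))
    fun i _ => (isPerfect_iff.1 (hK i)).2
  refine isPerfect_iff.2 ⟨PCoh.pc'_of_forall fun m => PCoh.pc_of_terms (d + 1 - m).toNat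
    (fun i hi => hcd i (Or.inr (by omega)))
    fun i => PCoh.pc_of_pc' (isPerfect_iff.1 (hK i)).1 _, a + c, b + d, ?_⟩
  refine ta_of_terms (d + 1 - c).toNat c (fun i hi => hcd i (by omega)) fun i => ?_
  by_cases hi : c ≤ i ∧ i ≤ d
  · exact ta_mono (by omega) (by omega) (hab i (Finset.mem_Icc.2 hi))
  · exact ta_of_isZero ((DerivedCategory.singleFunctor (ModuleCat.{u} R) 0).map_isZero
      (hcd i (by omega)))

/-- A bounded object with perfect cohomology modules. -/
theorem isPerfect_of_homology {K : Dual.D R} {c d : ℤ}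
    (hcd : ∀ i, (i < c ∨ d < i) → Subsingleton (Dual.HD R K i))
    (hK : ∀ i, DRing.IsPerfectModule R (Dual.HD R K i)) : DRing.IsPerfect R K := by
  obtain ⟨a, b, hab⟩ := exists_common (Finset.Icc c d) (fun i => Dual.inD R (Dual.HD R K i))
    fun i _ => (isPerfect_iff.1 (hK i)).2
  refine isPerfect_iff.2 ⟨PCoh.pc'_of_forall fun m => PCoh.pc_of_homology (d + 1 - m).toNat
    (fun i hi => hcd i (Or.inr (by omega)))
    fun i => PCoh.pc_of_pc' (isPerfect_iff.1 (hK i)).1 _, a + c, b + d, ?_⟩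
  refine ta_of_homology (d + 1 - c).toNat c (fun i hi => hcd i (by omega)) fun i => ?_
  by_cases hi : c ≤ i ∧ i ≤ d
  · exact ta_mono (by omega) (by omega) (hab i (Finset.mem_Icc.2 hi))
  · exact ta_of_isZero ((DerivedCategory.singleFunctor (ModuleCat.{u} R) 0).map_isZero
      (ModuleCat.isZero_of_iff_subsingleton.2 (hcd i (by omega))))

end Groth.Agent.H4DR.TorAmp
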