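import Groth.Agent.H4DR.TorAmp.Derived

/-!
# Derived tensor products and base changes exist
-/

set_option autoImplicit false
set_option linter.style.haveILetI false

universe w w' v v' u

open CategoryTheory CategoryTheory.Limits
open Groth.Agent.H16Derived

namespace Groth.Agent.H4DR.TorAmp

section
variable {A : Type*} [Category.{v} A] [Abelian A] [HasDerivedCategory.{w} A]
variable {A' : Type*} [Category.{v'} A'] [Abelian A'] [HasDerivedCategory.{w'} A']
variable {G : A ⥤ A'} [G.Additive] {P : ObjectProperty (CochainComplex A ℤ)}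

/-- An adapted class gives a left derived functor on the homotopy category. -/
theorem hasLeftDerived_of_adapted (h : LeftDerTri.Adapted G P) :
    (G.mapHomotopyCategory (ComplexShape.up ℤ) ⋙ DerivedCategory.Qh).HasLeftDerivedFunctor
      (HomotopyCategory.quasiIso A (ComplexShape.up ℤ)) := by
  haveI : (HomotopyCategory.quotient A (ComplexShape.up ℤ) ⋙
      DerivedCategory.Qh (C := A)).IsLocalization (HomologicalComplex.quasiIso A (ComplexShape.up ℤ)) :=
    Functor.IsLocalization.of_iso _ (DerivedCategory.quotientCompQhIso A).symm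
  have hmap : ∀ {X Y : (CochainComplex A ℤ)} (φ : X ⟶ Y), QuasiIso φ → P X → P Y →
      IsIso ((HomotopyCategory.quotient A (ComplexShape.up ℤ) ⋙
        (G.mapHomotopyCategory (ComplexShape.up ℤ) ⋙ DerivedCategory.Qh)).map φ) :=
    fun φ hφ hX hY => by
      rw [NatIso.isIso_map_iff LeftDerTri.compIso]; exact LeftDerTri.isIso_map h φ hX hY
  refine LeftDer.hasLeftDerivedFunctor' (W₁ := HomologicalComplex.quasiIso A (ComplexShape.up ℤ))
    (HomotopyCategory.quasiIso A (ComplexShape.up ℤ)) DerivedCategory.Qh
    (HomotopyCategory.quotient A (ComplexShape.up ℤ))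
    (HomologicalComplex.homotopyEquivalences A (ComplexShape.up ℤ))
    (ψ₀ := h.ψ) h.quasiIso (fun X Y f hf => ?_) (fun X => ?_)
  · haveI := h.quasiIso X
    haveI := h.quasiIso Y
    haveI : QuasiIso f := hf
    haveI : QuasiIso (h.R.map f ≫ h.ψ.app Y) := by
      rw [h.ψ.naturality f]; exact quasiIso_comp (h.ψ.app X) f
    exact hmap _ (quasiIso_of_comp_right (h.R.map f) (h.ψ.app Y)) (h.mem X) (h.mem Y)
  · exact hmap _ (h.quasiIso _) (h.mem _) (h.mem X)

end

attribute [local instance] HasDerivedCategory.standard

variable {A B : Type u} [CommRing A] [CommRing B]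

/-- Derived base change exists. -/
theorem hasLBaseChange (φ : A →+* B) : DRing.HasLBaseChange φ :=
  hasLeftDerived_of_adapted (extAdapted φ)

/-- The derived tensor product with a module exists. -/
theorem hasLTensor (M : ModuleCat.{u} A) : DRing.HasLTensor A M :=
  hasLeftDerived_of_adapted (tensAdapted M)

end Groth.Agent.H4DR.TorAmp
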