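import Groth.Agent.H4DR.TorAmp.PerfectChange

/-!
# Tor amplitude along nilpotent thickenings
-/

set_option autoImplicit false
set_option linter.style.haveILetI false

universe u

open CategoryTheory CategoryTheory.Limits MonoidalCategory TensorProduct
open Groth.Agent.H16Derived

attribute [local instance] HasDerivedCategory.standard

namespace Groth.Agent.H4DR.TorAmp

open Groth.Agent.H4DR.KFlatMod (bi)

variable {R : Type u} [CommRing R]

/-- Tor amplitude controls the tensor products of any K-flat representative. -/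
theorem exactAt_tens_of_ta {Q : DRing.Cx R} (hQ : KFlat.IsKFlat (bi R) Q) {a b : ℤ}
    (h : DRing.HasTorAmplitudeIn R a b (DRing.toD Q)) (N : ModuleCat.{u} R) {i : ℤ}
    (hi : i < a ∨ b < i) : ((tens N).obj Q).ExactAt i := by
  obtain ⟨P, hP, ⟨e⟩⟩ := exists_projRep (c := b) fun j hj => bound_of_ta h j (Or.inr hj)
  obtain ⟨f, hf, -⟩ := exists_qis hP e
  have := quasiIso_tens f (isKFlat_of_flat hP.above hP.flat) hQ N
  haveI := this.quasiIsoAt i
  exact ((exactAt_iff_of_quasiIsoAt ((tens N).map f) i)).1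
    ((tv_of_ta h).exactAt hP.above hP.flat e N hi)

/-- Exactness of `P ⊗ M` from a submodule and its quotient. -/
theorem exactAt_tens_of_submodule {P : DRing.Cx R} (hP : DRing.TermwiseFlat P) (i : ℤ) (M : ModuleCat.{u} R)
    (N : Submodule R M) (hN : ((tens (ModuleCat.of R N)).obj P).ExactAt i)
    (hQ : ((tens (ModuleCat.of R (M ⧸ N))).obj P).ExactAt i) : ((tens M).obj P).ExactAt i := by
  rw [HomologicalComplex.exactAt_iff' _ (i - 1) i (i + 1) (by simp) (by simp),
    ShortComplex.ShortExact.moduleCat_exact_iff_function_exact] at hN hQ ⊢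
  have hexact : ∀ j, Function.Exact (N.subtype.lTensor (P.X j)) (N.mkQ.lTensor (P.X j)) := fun j =>
    haveI := hP j
    Module.Flat.lTensor_exact (P.X j) (LinearMap.exact_subtype_mkQ N)
  have hinj : ∀ j, Function.Injective (N.subtype.lTensor (P.X j)) := fun j =>
    haveI := hP j
    Module.Flat.lTensor_preserves_injective_linearMap _ N.injective_subtype
  intro x
  refine ⟨fun hx => ?_, fun ⟨y, hy⟩ => hy ▸
    congr($(((tens M).obj P).d_comp_d (i - 1) i (i + 1)).hom y)⟩
  let x' : (P.X i : Type u) ⊗[R] M := x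
  let d₀ := (P.d (i - 1) i).hom
  let d₁ := (P.d i (i + 1)).hom
  have hx' : d₁.rTensor M x' = 0 := hx
  have h1 : d₁.rTensor (M ⧸ N) (N.mkQ.lTensor (P.X i) x') = 0 := by
    rw [← LinearMap.comp_apply, LinearMap.rTensor_comp_lTensor, ← LinearMap.lTensor_comp_rTensor,
      LinearMap.comp_apply, hx', map_zero]
  obtain ⟨y, hy⟩ := (hQ (N.mkQ.lTensor (P.X i) x')).1 h1
  obtain ⟨y', rfl⟩ := LinearMap.lTensor_surjective (P.X (i - 1)) N.mkQ_surjective y
  have h2 : N.mkQ.lTensor (P.X i) (x' - d₀.rTensor M y') = 0 := by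
    rw [map_sub, ← LinearMap.comp_apply (LinearMap.lTensor (P.X i) N.mkQ) (d₀.rTensor M),
      LinearMap.lTensor_comp_rTensor, ← LinearMap.rTensor_comp_lTensor, LinearMap.comp_apply,
      sub_eq_zero]
    exact hy.symm
  obtain ⟨z, hz⟩ := (hexact i _).1 h2
  have h3 : d₁.rTensor N z = 0 := hinj (i + 1) (by
    rw [map_zero, ← LinearMap.comp_apply, LinearMap.lTensor_comp_rTensor,
      ← LinearMap.rTensor_comp_lTensor, LinearMap.comp_apply, hz, map_sub, hx', zero_sub, neg_eq_zero,
      ← LinearMap.comp_apply, ← LinearMap.rTensor_comp,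
      show d₁ ∘ₗ d₀ = 0 from ModuleCat.hom_ext_iff.1 (P.d_comp_d (i - 1) i (i + 1)),
      LinearMap.rTensor_zero, LinearMap.zero_apply])
  obtain ⟨(w : (P.X (i - 1) : Type u) ⊗[R] N), (hw : d₀.rTensor N w = z)⟩ := (hN z).1 h3
  refine ⟨y' + N.subtype.lTensor (P.X (i - 1)) w, ?_⟩
  show d₀.rTensor M (y' + _) = x'
  rw [map_add, ← LinearMap.comp_apply (d₀.rTensor M), LinearMap.rTensor_comp_lTensor,
    ← LinearMap.lTensor_comp_rTensor, LinearMap.comp_apply,
    show d₀.rTensor N w = z from hw, hz, add_sub_cancel]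

/-- If every module killed by `I` gives exactness, so does every module killed by a power of `I`. -/
theorem exactAt_tens_of_pow {P : DRing.Cx R} (hP : DRing.TermwiseFlat P) (I : Ideal R) (i : ℤ)
    (h : ∀ M : ModuleCat.{u} R, I • (⊤ : Submodule R M) = ⊥ → ((tens M).obj P).ExactAt i) :
    ∀ (n : ℕ) (M : ModuleCat.{u} R), I ^ n • (⊤ : Submodule R M) = ⊥ → ((tens M).obj P).ExactAt i
  | 0, M, hM => by
    rw [pow_zero, Ideal.one_eq_top, Submodule.top_smul] at hM
    haveI : Subsingleton M := (Submodule.subsingleton_iff R).1 (subsingleton_iff_bot_eq_top.1 hM.symm)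
    refine (HomologicalComplex.exactAt_iff _ _).2 (ShortComplex.exact_of_isZero_X₂ _
      ((tensorLeft (P.X i)).map_isZero (ModuleCat.isZero_of_subsingleton M)))
  | n + 1, M, hM => by
    let N : Submodule R M := I • ⊤
    let ι : ModuleCat.of R N ⟶ M := ModuleCat.ofHom N.subtype
    let π : M ⟶ ModuleCat.of R (M ⧸ N) := ModuleCat.ofHom N.mkQ
    have hN := exactAt_tens_of_pow hP I i h n (ModuleCat.of R N) (by
      refine (Submodule.map_injective_of_injective N.injective_subtype) ?_
      rw [Submodule.map_smul'', Submodule.map_subtype_top, Submodule.map_bot, ← smul_assoc, smul_eq_mul,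
        ← pow_succ, hM])
    have hQ := h (ModuleCat.of R (M ⧸ N)) (by
      show I • (⊤ : Submodule R (M ⧸ N)) = ⊥
      rw [← N.range_mkQ, LinearMap.range_eq_map, ← Submodule.map_smul'', eq_bot_iff]
      rintro _ ⟨x, hx, rfl⟩
      exact (Submodule.mem_bot R).2 ((Submodule.Quotient.mk_eq_zero N).2 hx))
    exact exactAt_tens_of_submodule hP i M N hN hQ

variable {R' : Type u} [CommRing R'] {φ : R' →+* R}

lemma exists_kflatRep (K : Dual.D R') :
    ∃ P : DRing.Cx R', KFlat.IsKFlat (bi R') P ∧ DRing.TermwiseFlat P ∧ Nonempty (DRing.toD P ≅ K) := by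
  obtain ⟨P, r, h1, h2, h3, -⟩ := KFlatMod.exists_resolution (DerivedCategory.Q.objPreimage K)
  haveI := h3
  exact ⟨P, h1, h2, ⟨asIso (DerivedCategory.Q.map r) ≪≫ DerivedCategory.Q.objObjPreimageIso K⟩⟩

/-- Exactness against `R`-modules is exactness against modules killed by the kernel. -/
theorem exactAt_tens_of_surjective (hφ : Function.Surjective φ) {P : DRing.Cx R'} {i : ℤ}
    (M : ModuleCat.{u} R') (hM : RingHom.ker φ • (⊤ : Submodule R' M) = ⊥)
    (h : ∀ N : ModuleCat.{u} R, ((tens N).obj (((ModuleCat.extendScalars.{u, u, u} φ).mapHomologicalComplex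
      (ComplexShape.up ℤ)).obj P)).ExactAt i) : ((tens M).obj P).ExactAt i := by
  have hle : Module.IsTorsionBySet R' M (RingHom.ker φ : Set R') := fun x ⟨r, hr⟩ =>
    (Submodule.mem_bot R').1 (hM ▸ Submodule.smul_mem_smul hr (Submodule.mem_top : x ∈ ⊤))
  let ψ := RingHom.quotientKerEquivOfSurjective hφ
  letI := hle.module
  letI : Module R M := Module.compHom M (ψ.symm : R →+* R' ⧸ RingHom.ker φ)
  let N : ModuleCat.{u} R := ModuleCat.of R M
  let X₁ : ModuleCat.{u} R' := (ModuleCat.restrictScalars.{u} φ).obj N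
  let e₁ : X₁ ≃ₗ[R'] M :=
    { toFun := fun x => (x : (M : Type u))
      invFun := fun x => (x : (M : Type u))
      map_add' := fun _ _ => rfl
      left_inv := fun _ => rfl
      right_inv := fun _ => rfl
      map_smul' := fun r x => by
        show (ψ.symm (φ r) : R' ⧸ RingHom.ker φ) • (show M from x) = r • (show M from x)
        rw [show φ r = ψ (Ideal.Quotient.mk _ r) from rfl, RingEquiv.symm_apply_apply]
        exact hle.mk_smul r x }
  let eN : X₁ ≅ M := e₁.toModuleIso
  have h1 := h N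
  rw [← exactAt_restrict_iff φ] at h1
  refine HomologicalComplex.ExactAt.of_iso ?_ ((NatIso.mapHomologicalComplex
    ((curriedTensor (ModuleCat.{u} R')).flip.mapIso eN) (ComplexShape.up ℤ)).app P)
  exact h1.of_iso ((NatIso.mapHomologicalComplex (extTensIso φ N) (ComplexShape.up ℤ)).app P)

/-- Tor amplitude along a nilpotent surjection. -/
theorem ta_of_nilpotent (hφ : Function.Surjective φ) (hnil : IsNilpotent (RingHom.ker φ))
    [DRing.HasLBaseChange φ] (K' : Dual.D R') {a b : ℤ}
    (h : DRing.HasTorAmplitudeIn R a b ((DRing.LBaseChange φ).obj K')) :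
    DRing.HasTorAmplitudeIn R' a b K' := by
  obtain ⟨P, hP, hflat, ⟨e⟩⟩ := exists_kflatRep K'
  let Q := ((ModuleCat.extendScalars.{u, u, u} φ).mapHomologicalComplex (ComplexShape.up ℤ)).obj P
  have hQ : KFlat.IsKFlat (bi R) Q := H25DTen.isKFlat_extCx φ hP
  have hta : DRing.HasTorAmplitudeIn R a b (DRing.toD Q) :=
    ta_of_iso (((DRing.LBaseChange φ).mapIso e).symm ≪≫ lbaseObj φ P hP) h
  obtain ⟨n, hn⟩ := hnil
  have key : ∀ (M : ModuleCat.{u} R') (i : ℤ), (i < a ∨ b < i) → ((tens M).obj P).ExactAt i := by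
    intro M i hi
    refine exactAt_tens_of_pow hflat (RingHom.ker φ) i (fun M hM => ?_) n M (by
      rw [hn, Submodule.zero_eq_bot, Submodule.bot_smul])
    exact exactAt_tens_of_surjective hφ M hM fun N => exactAt_tens_of_ta hQ hta N hi
  have hv : ∀ i, b < i → Subsingleton (Dual.HD R' K' i) := fun i hi => by
    haveI := (subsingleton_HD_toD_iff _ i).2 (exactAt_of_exactAt_tens_unit (key _ i (Or.inr hi)))
    exact (PCoh.hEquiv i e.symm).injective.subsingleton
  obtain ⟨P₀, hP₀, ⟨e₀⟩⟩ := exists_projRep hv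
  obtain ⟨f, hf, -⟩ := exists_qis hP₀ (e₀ ≪≫ e.symm)
  refine ta_of_tv ⟨P₀, b, hP₀, ⟨e₀⟩, fun M i hi => ?_⟩
  have := quasiIso_tens f (isKFlat_of_flat hP₀.above hP₀.flat) hP M
  haveI := this.quasiIsoAt i
  exact (exactAt_iff_of_quasiIsoAt ((tens M).map f) i).2 (key M i hi)

end Groth.Agent.H4DR.TorAmp
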