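import Groth.Agent.H4DR.TorAmp.NilpotentPC
import Groth.Agent.H4DR.TorAmp.Exists

/-!
# Two reductions with orthogonal kernels
-/

set_option autoImplicit false
set_option linter.style.haveILetI false

universe u

open CategoryTheory CategoryTheory.Limits MonoidalCategory TensorProduct
open Groth.Agent.H16Derived

attribute [local instance] HasDerivedCategory.standard

namespace Groth.Agent.H4DR.TorAmp

open Groth.Agent.H4DR.KFlatMod (bi)

variable {R A B : Type u} [CommRing R] [CommRing A] [CommRing B]

/-- A pair of rings as a family. -/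
abbrev Two (A B : Type u) : Bool → Type u
  | true => A
  | false => B

noncomputable instance (k : Bool) : CommRing (Two A B k) :=
  match k with
  | true => inferInstanceAs (CommRing A)
  | false => inferInstanceAs (CommRing B)

/-- A pair of maps as a family. -/
def twoHom (φ : R →+* A) (ψ : R →+* B) : ∀ k, R →+* Two A B k
  | true => φ
  | false => ψ

/-- Perfectness from two reductions with orthogonal kernels, on a K-flat representative. -/
theorem isPerfect_of_pair {φ : R →+* A} {ψ : R →+* B} (hφ : Function.Surjective φ)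
    (hψ : Function.Surjective ψ) (h0 : RingHom.ker φ * RingHom.ker ψ = ⊥) {P : DRing.Cx R}
    (hP : KFlat.IsKFlat (bi R) P) (hflat : DRing.TermwiseFlat P)
    (hA : DRing.IsPerfect A (DRing.toD (((ModuleCat.extendScalars.{u, u, u} φ).mapHomologicalComplex
      (ComplexShape.up ℤ)).obj P)))
    (hB : DRing.IsPerfect B (DRing.toD (((ModuleCat.extendScalars.{u, u, u} ψ).mapHomologicalComplex
      (ComplexShape.up ℤ)).obj P))) :
    DRing.IsPerfect R (DRing.toD P) := by
  obtain ⟨hpA, a₁, b₁, hta⟩ := isPerfect_iff.1 hA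
  obtain ⟨hpB, a₂, b₂, htb⟩ := isPerfect_iff.1 hB
  let a := min a₁ a₂
  let b := max b₁ b₂
  have key : ∀ (M : ModuleCat.{u} R) (i : ℤ), (i < a ∨ b < i) → ((tens M).obj P).ExactAt i := by
    intro M i hi
    let N : Submodule R M := RingHom.ker φ • ⊤
    refine exactAt_tens_of_submodule hflat i M N ?_ ?_
    · refine exactAt_tens_of_surjective hψ (ModuleCat.of R N) ?_ fun V =>
        exactAt_tens_of_ta (H25DTen.isKFlat_extCx ψ hP) htb V (by omega)
      refine (Submodule.map_injective_of_injective N.injective_subtype) ?_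
      rw [Submodule.map_smul'', Submodule.map_subtype_top, Submodule.map_bot, ← smul_assoc, smul_eq_mul,
        mul_comm, h0, Submodule.bot_smul]
    · refine exactAt_tens_of_surjective hφ (ModuleCat.of R (M ⧸ N)) ?_ fun V =>
        exactAt_tens_of_ta (H25DTen.isKFlat_extCx φ hP) hta V (by omega)
      show RingHom.ker φ • (⊤ : Submodule R (M ⧸ N)) = ⊥
      rw [← N.range_mkQ, LinearMap.range_eq_map, ← Submodule.map_smul'', eq_bot_iff]
      rintro _ ⟨x, hx, rfl⟩
      exact (Submodule.mem_bot R).2 ((Submodule.Quotient.mk_eq_zero N).2 hx)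
  have hv : ∀ i, b < i → Subsingleton (Dual.HD R (DRing.toD P) i) := fun i hi =>
    (subsingleton_HD_toD_iff P i).2 (exactAt_of_exactAt_tens_unit (key _ i (Or.inr hi)))
  obtain ⟨P₀, hP₀, ⟨e₀⟩⟩ := exists_projRep hv
  obtain ⟨f, hf, -⟩ := exists_qis hP₀ e₀
  have hT : DRing.HasTorAmplitudeIn R a b (DRing.toD P) := by
    refine ta_of_tv ⟨P₀, b, hP₀, ⟨e₀⟩, fun M i hi => ?_⟩
    have := quasiIso_tens f (isKFlat_of_flat hP₀.above hP₀.flat) hP M
    haveI := this.quasiIsoAt i
    exact (exactAt_iff_of_quasiIsoAt ((tens M).map f) i).2 (key M i hi)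
  haveI := hasLBaseChange φ
  haveI := hasLBaseChange ψ
  let θ := twoHom φ ψ
  haveI : ∀ k, DRing.HasLBaseChange (θ k) := fun k => hasLBaseChange (θ k)
  refine isPerfect_iff.2 ⟨PCoh.pc'_iff.2 fun m => pc_of_reductions θ
    (fun M hM => finite_of_extend_pair hφ hψ h0 M (hM true) (hM false)) (b + 1 - m).toNat
    (fun i hi => hv i (by omega)) fun k => ?_, a, b, hT⟩
  match k with
  | true => exact PCoh.pc_of_iso (lbaseObj φ P hP).symm (PCoh.pc_of_pc' hpA m)
  | false => exact PCoh.pc_of_iso (lbaseObj ψ P hP).symm (PCoh.pc_of_pc' hpB m)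

/-- Extension of scalars in stages. -/
noncomputable def extCompIso (f : R →+* A) (g : A →+* B) (P : DRing.Cx R) :
    ((ModuleCat.extendScalars.{u, u, u} (g.comp f)).mapHomologicalComplex (ComplexShape.up ℤ)).obj P ≅
      ((ModuleCat.extendScalars.{u, u, u} g).mapHomologicalComplex (ComplexShape.up ℤ)).obj
        (((ModuleCat.extendScalars.{u, u, u} f).mapHomologicalComplex (ComplexShape.up ℤ)).obj P) :=
  HomologicalComplex.Hom.isoOfComponents (fun i => (ModuleCat.extendScalarsComp f g).app (P.X i))
    fun i j _ => ((ModuleCat.extendScalarsComp f g).hom.naturality (P.d i j)).symm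

end Groth.Agent.H4DR.TorAmp
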