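import Groth.Agent.H4DR.TorAmp.Nilpotent
import Groth.Agent.H4DR.Hom.TwoTerm
import Groth.Agent.H4DR.PCoh.Stage

/-!
# Pseudo-coherence along nilpotent thickenings
-/

set_option autoImplicit false
set_option linter.style.haveILetI false

universe u

open CategoryTheory CategoryTheory.Limits MonoidalCategory TensorProduct Pretriangulated
open Groth.Agent.H16Derived

attribute [local instance] HasDerivedCategory.standard

namespace Groth.Agent.H4DR.TorAmp

open Groth.Agent.H4DR.KFlatMod (bi)

variable {R R' : Type u} [CommRing R] [CommRing R'] {φ : R' →+* R}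

/-- Lifted generators of a finite reduction. -/
theorem exists_fg_sup (hφ : Function.Surjective φ)
    (M : ModuleCat.{u} R') (h : Module.Finite R ((ModuleCat.extendScalars.{u, u, u} φ).obj M)) :
    ∃ N : Submodule R' M, N.FG ∧ N ⊔ RingHom.ker φ • ⊤ = ⊤ := by
  letI := φ.toAlgebra
  haveI : Module.Finite R (R ⊗[R'] M) := h
  haveI : Module.Finite R' R :=
    Module.Finite.of_surjective (Algebra.linearMap R' R) hφ
  haveI : Module.Finite R' (R ⊗[R'] M) := Module.Finite.trans R _
  have hsurj : Function.Surjective (TensorProduct.mk R' R M 1) := fun z => by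
    induction z using TensorProduct.induction_on with
    | zero => exact ⟨0, map_zero _⟩
    | add a b ha hb =>
      obtain ⟨a, rfl⟩ := ha; obtain ⟨b, rfl⟩ := hb
      exact ⟨a + b, map_add _ _ _⟩
    | tmul c m =>
      obtain ⟨r, rfl⟩ := hφ c
      exact ⟨r • m, by simp [TensorProduct.smul_tmul', Algebra.smul_def, RingHom.algebraMap_toAlgebra]⟩
  obtain ⟨n, v, hv⟩ := Module.Finite.exists_fin (R := R') (M := R ⊗[R'] M)
  let w : Fin n → M := fun i => (hsurj (v i)).choose
  let N : Submodule R' M := Submodule.span R' (Set.range w)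
  have hN : N.map (TensorProduct.mk R' R M 1) = ⊤ := by
    rw [Submodule.map_span, ← Set.range_comp, ← hv]
    congr 2
    funext i
    exact (hsurj (v i)).choose_spec
  have hker : LinearMap.ker (TensorProduct.mk R' R M 1) ≤ RingHom.ker φ • ⊤ := fun x hx => by
    let ψ := RingHom.quotientKerEquivOfSurjective hφ
    let e : R →ₗ[R'] R' ⧸ RingHom.ker φ :=
      { toFun := ψ.symm
        map_add' := map_add _
        map_smul' := fun r s => by
          rw [RingHom.id_apply, Algebra.smul_def, map_mul, RingHom.algebraMap_toAlgebra,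
            show φ r = ψ (Ideal.Quotient.mk _ r) from rfl, RingEquiv.symm_apply_apply,
            Algebra.smul_def]
          rfl }
    have h1 : e.rTensor M ((1 : R) ⊗ₜ[R'] x) = 0 := by
      rw [show (1 : R) ⊗ₜ[R'] x = 0 from hx, map_zero]
    rw [LinearMap.rTensor_tmul, show e 1 = 1 from map_one ψ.symm] at h1
    have h2 := congrArg (TensorProduct.quotTensorEquivQuotSMul M (RingHom.ker φ)) h1
    rw [map_zero, ← map_one (Ideal.Quotient.mk (RingHom.ker φ)),
      TensorProduct.quotTensorEquivQuotSMul_mk_tmul, one_smul] at h2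
    exact (Submodule.Quotient.mk_eq_zero _).1 h2
  refine ⟨N, Submodule.fg_span (Set.finite_range w), eq_top_iff.2 fun x _ => ?_⟩
  obtain ⟨y, hy, hyx⟩ := (hN ▸ Submodule.mem_top :
    TensorProduct.mk R' R M 1 x ∈ N.map (TensorProduct.mk R' R M 1))
  rw [← add_sub_cancel y x]
  exact Submodule.add_mem_sup hy (hker (LinearMap.mem_ker.2 (by rw [map_sub, hyx, sub_self])))

/-- A module is finite if its reduction modulo a nilpotent ideal is. -/
theorem finite_of_extend_finite (hφ : Function.Surjective φ) (hnil : IsNilpotent (RingHom.ker φ))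
    (M : ModuleCat.{u} R') (h : Module.Finite R ((ModuleCat.extendScalars.{u, u, u} φ).obj M)) :
    Module.Finite R' M := by
  obtain ⟨N, hN, hsup⟩ := exists_fg_sup hφ M h
  have htop : ∀ k : ℕ, (⊤ : Submodule R' M) ≤ N ⊔ RingHom.ker φ ^ k • ⊤ := fun k => by
    induction k with
    | zero => rw [pow_zero, Ideal.one_eq_top, Submodule.top_smul]; exact le_sup_right
    | succ k ih =>
      refine hsup.ge.trans (sup_le le_sup_left ?_)
      refine (Submodule.smul_mono le_rfl ih).trans ?_
      rw [Submodule.smul_sup, ← smul_assoc, smul_eq_mul, ← pow_succ']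
      exact sup_le (Submodule.smul_le_right.trans le_sup_left) le_sup_right
  obtain ⟨k, hk⟩ := hnil
  have := htop k
  rw [hk, Submodule.zero_eq_bot, Submodule.bot_smul, sup_bot_eq] at this
  exact Module.finite_def.2 (by rwa [← eq_top_iff.2 this])

/-- Two reductions with orthogonal kernels. -/
theorem finite_of_extend_pair {S : Type u} [CommRing S] {ψ : R' →+* S} (hφ : Function.Surjective φ)
    (hψ : Function.Surjective ψ) (h0 : RingHom.ker φ * RingHom.ker ψ = ⊥)
    (M : ModuleCat.{u} R') (h : Module.Finite R ((ModuleCat.extendScalars.{u, u, u} φ).obj M))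
    (h' : Module.Finite S ((ModuleCat.extendScalars.{u, u, u} ψ).obj M)) : Module.Finite R' M := by
  obtain ⟨N, hN, hsup⟩ := exists_fg_sup hφ M h
  obtain ⟨N', hN', hsup'⟩ := exists_fg_sup hψ M h'
  refine Module.finite_def.2 ((eq_top_iff.2 ?_ : N ⊔ N' = (⊤ : Submodule R' M)) ▸ hN.sup hN')
  refine hsup.ge.trans (sup_le le_sup_left ?_)
  refine (Submodule.smul_mono le_rfl hsup'.ge).trans ?_
  rw [Submodule.smul_sup, ← smul_assoc, smul_eq_mul, h0, Submodule.bot_smul, sup_bot_eq]
  exact Submodule.smul_le_right.trans le_sup_right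

/-- The top cokernel reduces. -/
lemma finite_extend_coker {P : DRing.Cx R'} (b : ℤ)
    (h : Module.Finite R (Hom.coker
      (((ModuleCat.extendScalars.{u, u, u} φ).mapHomologicalComplex (ComplexShape.up ℤ)).obj P) b)) :
    Module.Finite R ((ModuleCat.extendScalars.{u, u, u} φ).obj (Hom.coker P b)) := by
  let F := ModuleCat.extendScalars.{u, u, u} φ
  let π : F.obj (P.X b) ⟶ F.obj (Hom.coker P b) := F.map (Hom.cokerπ P b)
  have hπ : Epi π := by
    haveI : Epi (Hom.cokerπ P b) := (ModuleCat.epi_iff_surjective _).2 (Submodule.mkQ_surjective _)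
    infer_instance
  have h0 : F.map (P.d (b - 1) b) ≫ π = 0 := by
    rw [← Functor.map_comp, Hom.d_cokerπ, Functor.map_zero]
  let Q := (F.mapHomologicalComplex (ComplexShape.up ℤ)).obj P
  refine Module.Finite.of_surjective (Submodule.liftQ (LinearMap.range (Q.d (b - 1) b).hom) π.hom
    fun x ⟨y, hy⟩ => LinearMap.mem_ker.2 (hy ▸ congr($(h0).hom y))) fun z => ?_
  obtain ⟨x, hx⟩ := (ModuleCat.epi_iff_surjective π).1 hπ z
  exact ⟨Submodule.Quotient.mk x, hx⟩

theorem pc_of_reductions {ι : Type*} {S : ι → Type u} [∀ k, CommRing (S k)] (φ : ∀ k, R' →+* S k)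
    [∀ k, DRing.HasLBaseChange (φ k)]
    (hfin : ∀ M : ModuleCat.{u} R',
      (∀ k, Module.Finite (S k) ((ModuleCat.extendScalars.{u, u, u} (φ k)).obj M)) → Module.Finite R' M) :
    ∀ (N : ℕ) {m : ℤ} {K : Dual.D R'},
      (∀ i, m + N ≤ i → Subsingleton (Dual.HD R' K i)) →
      (∀ k, DRing.IsPseudoCoherent (S k) m ((DRing.LBaseChange (φ k)).obj K)) →
      DRing.IsPseudoCoherent R' m K
  | 0, m, K, hb, _ => PCoh.pc_of_vanish fun i hi => hb i (by omega)
  | N + 1, m, K, hb, hK => by
    have hv : ∀ i, m + N < i → Subsingleton (Dual.HD R' K i) := fun i hi => hb i (by omega)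
    obtain ⟨P, hP, ⟨e⟩⟩ := exists_projRep hv
    let F := fun k => (ModuleCat.extendScalars.{u, u, u} (φ k)).mapHomologicalComplex (ComplexShape.up ℤ)
    let eK : ∀ k, (DRing.LBaseChange (φ k)).obj K ≅ DRing.toD ((F k).obj P) := fun k =>
      ((DRing.LBaseChange (φ k)).mapIso e).symm ≪≫ lbaseObj (φ k) P (isKFlat_of_flat hP.above hP.flat)
    have hQ : ∀ k i, m + N < i → IsZero (((F k).obj P).X i) := fun k i hi =>
      (ModuleCat.extendScalars.{u, u, u} (φ k)).map_isZero (hP.above i hi)
    have hKP : ∀ k, DRing.IsPseudoCoherent (S k) m (DRing.toD ((F k).obj P)) := fun k =>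
      PCoh.pc_of_iso (eK k) (hK k)
    haveI : Module.Finite R' (Dual.HD R' K (m + N)) := by
      haveI := hfin _ fun k => finite_extend_coker (φ := φ k) (m + N) (by
        have h1 := PCoh.finite_top (hKP k) (b := m + N) (by omega) fun i hi =>
          (subsingleton_HD_toD_iff _ i).2 ((HomologicalComplex.exactAt_iff _ _).2
            (ShortComplex.exact_of_isZero_X₂ _ (hQ k i hi)))
        exact @Module.Finite.equiv _ _ _ _ _ _ _ _ h1
          ((((DerivedCategory.homologyFunctorFactors (ModuleCat.{u} (S k)) (m + N)).app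
            ((F k).obj P)) ≪≫ Hom.homologyTopIso (m + N) (hQ k _ (lt_add_one _)))).toLinearEquiv)
      exact Module.Finite.equiv
        ((((DerivedCategory.homologyFunctorFactors (ModuleCat.{u} R') (m + N)).app P) ≪≫
          Hom.homologyTopIso (m + N) (hP.above _ (lt_add_one _))).toLinearEquiv.symm ≪≫ₗ
            PCoh.hEquiv (m + N) e)
    obtain ⟨n, C, f, g, h, hT, -, hC, hpc⟩ := PCoh.exists_attach K (m + N) hv
    refine (hpc m).2 (pc_of_reductions φ hfin N hC fun k => ?_)
    have hfree := PCoh.isFFCx_freeAt (R := R') n (m + N)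
    have hfp : IsProjRep (PCoh.freeAt (R := R') n (m + N)) (m + N) :=
      ⟨fun i hi => HomologicalComplex.isZero_single_obj_X _ _ _ _ (by omega), fun i => by
        obtain ⟨a, c, -, h2⟩ := hfree
        haveI := (h2 i).2
        infer_instance⟩
    haveI := hfp.isKProjective
    obtain ⟨f', hf'⟩ := ProjLift.Q_map_surjective _ P (f ≫ e.inv)
    let T' := DerivedCategory.Q.mapTriangle.obj (CochainComplex.mappingCone.triangle f')
    have hT' : T' ∈ distTriang _ := (DerivedCategory.mem_distTriang_iff _).2 ⟨_, _, f', ⟨Iso.refl _⟩⟩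
    let ψ := completeDistinguishedTriangleMorphism T' (Triangle.mk f g h) hT' hT (𝟙 _) e.hom
      (by
        show DerivedCategory.Q.map f' ≫ e.hom = _
        rw [hf', Category.assoc, Iso.inv_hom_id, Category.comp_id]
        exact (Category.id_comp f).symm)
    have h3 : IsIso ψ.hom₃ := isIso₃_of_isIso₁₂ ψ hT' hT (inferInstanceAs (IsIso (𝟙 _)))
      (inferInstanceAs (IsIso e.hom))
    have hcone := cone_isProjRep hfp hP f'
    let eC : (DRing.LBaseChange (φ k)).obj C ≅
        DRing.toD (CochainComplex.mappingCone ((F k).map f')) :=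
      (DRing.LBaseChange (φ k)).mapIso (@asIso _ _ _ _ ψ.hom₃ h3).symm ≪≫
        lbaseObj (φ k) _ (isKFlat_of_flat hcone.above hcone.flat) ≪≫
        DerivedCategory.Q.mapIso (CochainComplex.mappingCone.mapHomologicalComplexIso f'
          (ModuleCat.extendScalars.{u, u, u} (φ k)))
    refine PCoh.pc_of_iso eC.symm (PCoh.pc_obj₃ (DerivedCategory.Q.mapTriangle.obj
      (CochainComplex.mappingCone.triangle ((F k).map f')))
      ((DerivedCategory.mem_distTriang_iff _).2 ⟨_, _, (F k).map f', ⟨Iso.refl _⟩⟩) ?_ (hKP k))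
    obtain ⟨a, c, h1, h2⟩ := hfree
    exact PCoh.pc_toD_of_isFFCx ⟨a, c, fun i hi => (ModuleCat.extendScalars.{u, u, u} (φ k)).map_isZero (h1 i hi),
      fun i => by
        letI := (φ k).toAlgebra
        haveI := (h2 i).1
        haveI := (h2 i).2
        exact ⟨inferInstanceAs (Module.Finite (S k) (S k ⊗[R'] (PCoh.freeAt (R := R') n (m + N)).X i)),
          inferInstanceAs (Module.Free (S k) (S k ⊗[R'] (PCoh.freeAt (R := R') n (m + N)).X i))⟩⟩ _

/-- Pseudo-coherence along a nilpotent surjection. -/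
theorem pc'_of_nilpotent (hφ : Function.Surjective φ) (hnil : IsNilpotent (RingHom.ker φ))
    [DRing.HasLBaseChange φ] (K : Dual.D R')
    (hK : DRing.IsPseudoCoherent' R ((DRing.LBaseChange φ).obj K)) :
    DRing.IsPseudoCoherent' R' K := by
  obtain ⟨F₀, c, hb, hF, ⟨eF⟩⟩ := hK
  obtain ⟨P, hP, hflat, ⟨e⟩⟩ := exists_kflatRep K
  let Q := ((ModuleCat.extendScalars.{u, u, u} φ).mapHomologicalComplex (ComplexShape.up ℤ)).obj P
  have hflatF : DRing.TermwiseFlat F₀ := fun i => haveI := (hF i).2; inferInstance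
  have hQ : KFlat.IsKFlat (bi R) Q := H25DTen.isKFlat_extCx φ hP
  let eQ : DRing.toD F₀ ≅ DRing.toD Q :=
    eF ≪≫ ((DRing.LBaseChange φ).mapIso e).symm ≪≫ lbaseObj φ P hP
  obtain ⟨n, hn⟩ := hnil
  have hv : ∀ i, c < i → Subsingleton (Dual.HD R' K i) := fun i hi => by
    haveI := (subsingleton_HD_toD_iff P i).2 (exactAt_of_exactAt_tens_unit ?_)
    · exact (PCoh.hEquiv i e.symm).injective.subsingleton
    refine exactAt_tens_of_pow hflat (RingHom.ker φ) i (fun M hM => ?_) n _ (by
      rw [hn, Submodule.zero_eq_bot, Submodule.bot_smul])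
    refine exactAt_tens_of_surjective hφ M hM ?_
    intro N
    obtain ⟨P₁, hP₁, ⟨e₁⟩⟩ := exists_projRep (c := c) fun j hj =>
      (subsingleton_HD_toD_iff F₀ j).2 ((HomologicalComplex.exactAt_iff _ _).2
        (ShortComplex.exact_of_isZero_X₂ _ (hb j hj)))
    obtain ⟨f, hf, -⟩ := exists_qis hP₁ (e₁ ≪≫ eQ)
    have := quasiIso_tens f (isKFlat_of_flat hP₁.above hP₁.flat) hQ N
    haveI := this.quasiIsoAt i
    exact (exactAt_iff_of_quasiIsoAt ((tens N).map f) i).1 ((HomologicalComplex.exactAt_iff _ _).2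
      (ShortComplex.exact_of_isZero_X₂ _ ((tensorRight N).map_isZero (hP₁.above i hi))))
  refine PCoh.pc'_iff.2 fun m => pc_of_reductions (fun _ : Unit => φ)
    (fun M hM => finite_of_extend_finite hφ ⟨n, hn⟩ M (hM ())) (c + 1 - m).toNat
    (fun i hi => hv i (by omega)) fun _ => PCoh.pc_of_pc' ⟨F₀, c, hb, hF, ⟨eF⟩⟩ m

end Groth.Agent.H4DR.TorAmp
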