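import Groth.Agent.H4DR.TorAmp.Modules
import Groth.Agent.H25DTen.Base
import Groth.Agent.H16Derived.LeftDerTri
import Groth.Prelude.Def_DDual2

/-!
# Derived tensor products and base change on K-flat complexes
-/

set_option autoImplicit false
set_option linter.style.haveILetI false

universe u

open CategoryTheory CategoryTheory.Limits MonoidalCategory
open Groth.Agent.H16Derived

attribute [local instance] HasDerivedCategory.standard

namespace Groth.Agent.H4DR.TorAmp

open Groth.Agent.H4DR.KFlatMod (bi)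

variable {A B : Type u} [CommRing A] [CommRing B]

/-- K-flat complexes. -/
abbrev KF (A : Type u) [CommRing A] : ObjectProperty (CochainComplex (ModuleCat.{u} A) ℤ) :=
  KFlat.IsKFlat (bi A)

instance : (KF A).IsStableUnderShift ℤ where
  isStableUnderShiftBy n := ⟨fun _ hE => hE.shift n⟩

/-- K-flat complexes are adapted to `- ⊗ M`. -/
noncomputable def tensAdapted (M : ModuleCat.{u} A) :
    LeftDerTri.Adapted (tensorRight M) (KF A) where
  R := H25DTen.res A
  ψ := H25DTen.resψ A
  mem := H25DTen.isKFlat_res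
  quasiIso := H25DTen.quasiIso_resψ
  cone φ hX hY := hX.mappingCone φ hY
  acyclic _ hW hK := acyclic_tens hW hK M

/-- K-flat complexes are adapted to extension of scalars. -/
noncomputable def extAdapted (φ : A →+* B) :
    LeftDerTri.Adapted (ModuleCat.extendScalars.{u, u, u} φ) (KF A) where
  R := H25DTen.res A
  ψ := H25DTen.resψ A
  mem := H25DTen.isKFlat_res
  quasiIso := H25DTen.quasiIso_resψ
  cone f hX hY := hX.mappingCone f hY
  acyclic _ hW hK := H25DTen.acyclic_extCx φ hW hK

/-- `- ⊗^L M` on a K-flat complex. -/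
noncomputable def ltensorObj (M : ModuleCat.{u} A) [DRing.HasLTensor A M] (P : DRing.Cx A)
    (hP : KFlat.IsKFlat (bi A) P) :
    (DRing.LTensor A M).obj (DRing.toD P) ≅ DRing.toD ((tens M).obj P) :=
  (LeftDerTri.derivedIso ((DRing.tensorKh A M).totalLeftDerivedCounit DerivedCategory.Qh
    (HomotopyCategory.quasiIso (ModuleCat.{u} A) (ComplexShape.up ℤ))) (tensAdapted M)).app ⟨P, hP⟩

/-- `- ⊗^L_A B` on a K-flat complex. -/
noncomputable def lbaseObj (φ : A →+* B) [DRing.HasLBaseChange φ] (P : DRing.Cx A)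
    (hP : KFlat.IsKFlat (bi A) P) :
    (DRing.LBaseChange φ).obj (DRing.toD P) ≅
      DRing.toD (((ModuleCat.extendScalars.{u, u, u} φ).mapHomologicalComplex (ComplexShape.up ℤ)).obj P) :=
  (LeftDerTri.derivedIso ((DRing.baseChangeKh φ).totalLeftDerivedCounit DerivedCategory.Qh
    (HomotopyCategory.quasiIso (ModuleCat.{u} A) (ComplexShape.up ℤ))) (extAdapted φ)).app ⟨P, hP⟩

lemma subsingleton_HD_toD_iff (W : DRing.Cx A) (i : ℤ) :
    Subsingleton (Dual.HD A (DRing.toD W) i) ↔ W.ExactAt i := by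
  rw [HomologicalComplex.exactAt_iff_isZero_homology, ← ModuleCat.isZero_iff_subsingleton]
  exact ((DerivedCategory.homologyFunctorFactors (ModuleCat.{u} A) i).app W).isZero_iff

/-- An object whose derived tensor products vanish above `b` has no cohomology there. -/
lemma subsingleton_HD_of_ltensor [∀ M : ModuleCat.{u} A, DRing.HasLTensor A M] (K : Dual.D A)
    (i : ℤ) (h : Subsingleton (Dual.HD A ((DRing.LTensor A (𝟙_ (ModuleCat.{u} A))).obj K) i)) :
    Subsingleton (Dual.HD A K i) := by
  let X := DerivedCategory.Q.objPreimage K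
  let P := (H25DTen.res A).obj X
  haveI := H25DTen.quasiIso_resψ X
  let e : DRing.toD P ≅ K :=
    asIso (DerivedCategory.Q.map ((H25DTen.resψ A).app X)) ≪≫ DerivedCategory.Q.objObjPreimageIso K
  have h1 : Subsingleton (Dual.HD A (DRing.toD ((tens (𝟙_ (ModuleCat.{u} A))).obj P)) i) :=
    (PCoh.hEquiv i (((DRing.LTensor A _).mapIso e).symm ≪≫
      ltensorObj _ P (H25DTen.isKFlat_res X))).symm.injective.subsingleton
  haveI := (subsingleton_HD_toD_iff P i).2
    (exactAt_of_exactAt_tens_unit ((subsingleton_HD_toD_iff _ i).1 h1))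
  exact (PCoh.hEquiv i e.symm).injective.subsingleton

theorem ta_iff_ltensor [∀ M : ModuleCat.{u} A, DRing.HasLTensor A M] (K : Dual.D A) (a b : ℤ) :
    DRing.HasTorAmplitudeIn A a b K ↔ ∀ (M : ModuleCat.{u} A) (i : ℤ), (i < a ∨ b < i) →
      Subsingleton (Dual.HD A ((DRing.LTensor A M).obj K) i) := by
  refine ⟨fun h M i hi => ?_, fun h => ?_⟩
  · obtain ⟨E, hE, hf, ⟨e⟩⟩ := h
    haveI := (subsingleton_HD_toD_iff _ i).2 ((HomologicalComplex.exactAt_iff _ _).2
      (ShortComplex.exact_of_isZero_X₂ ((((tens M).obj E)).sc i)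
        ((tensorRight M).map_isZero (hE i hi))))
    exact (PCoh.hEquiv i ((DRing.LTensor A M).mapIso e.symm ≪≫ ltensorObj M E
      (isKFlat_of_flat (fun j hj => hE j (Or.inr hj)) hf))).injective.subsingleton
  · obtain ⟨P, hP, ⟨e⟩⟩ := exists_projRep (c := b) fun i hi =>
      subsingleton_HD_of_ltensor K i (h _ i (Or.inr hi))
    refine ta_of_tv ⟨P, b, hP, ⟨e⟩, fun M i hi => ?_⟩
    haveI := h M i hi
    exact (subsingleton_HD_toD_iff _ i).1 (PCoh.hEquiv i (((DRing.LTensor A M).mapIso e).symm ≪≫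
      ltensorObj M P (isKFlat_of_flat hP.above hP.flat))).symm.injective.subsingleton

/-- Derived base change preserves tor amplitude. -/
theorem ta_lbase (φ : A →+* B) [DRing.HasLBaseChange φ] {K : Dual.D A} {a b : ℤ}
    (h : DRing.HasTorAmplitudeIn A a b K) :
    DRing.HasTorAmplitudeIn B a b ((DRing.LBaseChange φ).obj K) := by
  obtain ⟨E, hE, hf, ⟨e⟩⟩ := h
  refine ⟨_, fun i hi => (ModuleCat.extendScalars.{u, u, u} φ).map_isZero (hE i hi), fun i => ?_,
    ⟨(lbaseObj φ E (isKFlat_of_flat (fun j hj => hE j (Or.inr hj)) hf)).symm ≪≫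
      (DRing.LBaseChange φ).mapIso e⟩⟩
  letI := φ.toAlgebra
  haveI := hf i
  exact inferInstanceAs (Module.Flat B (TensorProduct A B (E.X i)))

end Groth.Agent.H4DR.TorAmp
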