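import Groth.Agent.H4DR.TorAmp.Perfect
import Groth.Agent.H4DR.TorAmp.Derived
import Mathlib.LinearAlgebra.Charpoly.BaseChange
import Mathlib.LinearAlgebra.Charpoly.Basic
import Mathlib.LinearAlgebra.Basis.VectorSpace
import Mathlib.RingTheory.Ideal.Quotient.Basic

/-!
# Exactness of complexes of finite free modules from their fibres at closed points
-/

set_option autoImplicit false
set_option linter.style.haveILetI false

universe u

open CategoryTheory CategoryTheory.Limits MonoidalCategory TensorProduct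
open Groth.Agent.H16Derived

attribute [local instance] HasDerivedCategory.standard

namespace Groth.Agent.H4DR.TorAmp

open Groth.Agent.H4DR.KFlatMod (bi)

/-- An endomorphism is killed by the constant coefficient of its characteristic polynomial. -/
lemma exists_comp_eq_smul {R B : Type u} [CommRing R] [AddCommGroup B] [Module R B] [Module.Finite R B]
    [Module.Free R B] (θ : B →ₗ[R] B) :
    ∃ q : Polynomial R, θ * Polynomial.aeval θ q = (θ.charpoly.coeff 0) • (1 : Module.End R B) := by
  refine ⟨-θ.charpoly.divX, ?_⟩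
  have h : Polynomial.aeval θ (Polynomial.X * θ.charpoly.divX + Polynomial.C (θ.charpoly.coeff 0)) = 0 := by
    rw [Polynomial.X_mul_divX_add]; exact LinearMap.aeval_self_charpoly θ
  rw [map_add, map_mul, Polynomial.aeval_X, Polynomial.aeval_C] at h
  rw [map_neg, mul_neg, eq_neg_of_add_eq_zero_left h, neg_neg, Algebra.algebraMap_eq_smul_one]

/-- Exactness at a fibre gives an element outside the maximal ideal killing the homology, universally. -/
theorem exists_smul_mem_range {R k A B C : Type u} [CommRing R] [Field k] [Algebra R k]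
    (hs : Function.Surjective (algebraMap R k))
    [AddCommGroup A] [Module R A] [AddCommGroup B] [Module R B] [AddCommGroup C] [Module R C]
    [Module.Finite R B] [Module.Free R B] [Module.Projective R C]
    (f : A →ₗ[R] B) (g : B →ₗ[R] C) (hgf : g ∘ₗ f = 0)
    (hk : Function.Exact (f.baseChange k) (g.baseChange k)) :
    ∃ δ : R, algebraMap R k δ ≠ 0 ∧ ∀ (M : Type u) [AddCommGroup M] [Module R M] (x : B ⊗[R] M),
      g.rTensor M x = 0 → δ • x ∈ LinearMap.range (f.rTensor M) := by
  set F := f.baseChange k with hF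
  set G := g.baseChange k with hG
  letI : AddCommGroup (LinearMap.range F) := Submodule.addCommGroup _
  haveI : Module.Free k (LinearMap.range F) := Module.Free.of_divisionRing k (LinearMap.range F)
  obtain ⟨s, hs'⟩ := F.rangeRestrict.exists_rightInverse_of_surjective F.range_rangeRestrict
  obtain ⟨p, hp⟩ := LinearMap.exists_extend (LinearMap.id : LinearMap.range F →ₗ[k] LinearMap.range F)
  let ε : k ⊗[R] B →ₗ[k] k ⊗[R] B := LinearMap.id - F ∘ₗ s ∘ₗ p
  have hε : LinearMap.ker G ≤ LinearMap.ker ε := fun x hx => by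
    obtain ⟨a, rfl⟩ := (hk x).1 (LinearMap.mem_ker.1 hx)
    have h1 : p (F a) = ⟨F a, LinearMap.mem_range_self F a⟩ := LinearMap.congr_fun hp ⟨F a, LinearMap.mem_range_self F a⟩
    have h2 : F (s ⟨F a, LinearMap.mem_range_self F a⟩) = F a :=
      congrArg Subtype.val (LinearMap.congr_fun hs' ⟨F a, LinearMap.mem_range_self F a⟩)
    rw [LinearMap.mem_ker]
    show F a - F (s (p (F a))) = 0
    rw [h1, h2, sub_self]
  obtain ⟨e, he⟩ := LinearMap.exists_extend
    (Submodule.liftQ _ ε hε ∘ₗ (G.quotKerEquivRange.symm : LinearMap.range G →ₗ[k] _))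
  have he' : ∀ x, e (G x) = ε x := fun x => by
    refine (LinearMap.congr_fun he ⟨G x, LinearMap.mem_range_self G x⟩).trans ?_
    show Submodule.liftQ _ ε hε (G.quotKerEquivRange.symm ⟨G x, _⟩) = _
    rw [LinearMap.quotKerEquivRange_symm_apply_image, Submodule.mkQ_apply, Submodule.liftQ_apply]
  have hsurj : ∀ (N : Type u) [AddCommGroup N] [Module R N],
      Function.Surjective (TensorProduct.mk R k N 1) := fun N _ _ z => by
    induction z using TensorProduct.induction_on with
    | zero => exact ⟨0, map_zero _⟩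
    | add a b ha hb =>
      obtain ⟨a, rfl⟩ := ha; obtain ⟨b, rfl⟩ := hb
      exact ⟨a + b, map_add _ _ _⟩
    | tmul c n =>
      obtain ⟨r, rfl⟩ := hs c
      exact ⟨r • n, by simp [TensorProduct.smul_tmul', Algebra.algebraMap_eq_smul_one]⟩
  obtain ⟨h₁, hh₁⟩ := Module.projective_lifting_property (TensorProduct.mk R k A 1)
    (((s ∘ₗ p).restrictScalars R) ∘ₗ TensorProduct.mk R k B 1) (hsurj A)
  obtain ⟨h₂, hh₂⟩ := Module.projective_lifting_property (TensorProduct.mk R k B 1)
    ((e.restrictScalars R) ∘ₗ TensorProduct.mk R k C 1) (hsurj B)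
  let θ : B →ₗ[R] B := f ∘ₗ h₁ + h₂ ∘ₗ g
  have hθ : θ.baseChange k = LinearMap.id := by
    refine TensorProduct.AlgebraTensorModule.ext fun c b => ?_
    have h1 : (1 : k) ⊗ₜ[R] h₁ b = s (p (1 ⊗ₜ[R] b)) := LinearMap.congr_fun hh₁ b
    have h2 : (1 : k) ⊗ₜ[R] h₂ (g b) = e (1 ⊗ₜ[R] g b) := LinearMap.congr_fun hh₂ (g b)
    have h3 : (1 : k) ⊗ₜ[R] θ b = 1 ⊗ₜ[R] b := by
      show (1 : k) ⊗ₜ[R] (f (h₁ b) + h₂ (g b)) = _
      rw [TensorProduct.tmul_add, h2, show (1 : k) ⊗ₜ[R] f (h₁ b) = F (1 ⊗ₜ h₁ b) from rfl, h1,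
        show e (1 ⊗ₜ[R] g b) = ε (1 ⊗ₜ[R] b) from he' (1 ⊗ₜ[R] b)]
      show F (s (p (1 ⊗ₜ[R] b))) + ((1 : k) ⊗ₜ[R] b - F (s (p (1 ⊗ₜ[R] b)))) = _
      abel
    have h4 : c ⊗ₜ[R] θ b = c • ((1 : k) ⊗ₜ[R] θ b) := by
      rw [TensorProduct.smul_tmul', smul_eq_mul, mul_one]
    rw [LinearMap.baseChange_tmul, h4, h3, TensorProduct.smul_tmul', smul_eq_mul, mul_one,
      LinearMap.id_apply]
  refine ⟨θ.charpoly.coeff 0, ?_, fun M _ _ x hx => ?_⟩
  · have h := LinearMap.det_eq_sign_charpoly_coeff (θ.baseChange k)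
    rw [LinearMap.charpoly_baseChange, Polynomial.coeff_map, hθ, LinearMap.det_id] at h
    intro h0
    rw [h0, mul_zero] at h
    exact one_ne_zero h
  · obtain ⟨q, hq⟩ := exists_comp_eq_smul θ
    let Θ : Module.End R (B ⊗[R] M) := θ.rTensor M
    have hgen : ∀ q : Polynomial R, ∀ y, g.rTensor M y = 0 →
        g.rTensor M ((Polynomial.aeval θ q).rTensor M y) = 0 := by
      have hT : ∀ y, g.rTensor M y = 0 → g.rTensor M (Θ y) = 0 := fun y hy => by
        show g.rTensor M ((f ∘ₗ h₁ + h₂ ∘ₗ g).rTensor M y) = 0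
        rw [LinearMap.rTensor_add, LinearMap.add_apply, LinearMap.rTensor_comp, LinearMap.rTensor_comp,
          LinearMap.comp_apply, LinearMap.comp_apply, hy, map_zero, add_zero,
          ← LinearMap.comp_apply (g.rTensor M), ← LinearMap.rTensor_comp, hgf, LinearMap.rTensor_zero,
          LinearMap.zero_apply]
      intro q
      induction q using Polynomial.induction_on' with
      | add p r hp hr =>
        intro y hy
        rw [map_add, LinearMap.rTensor_add, LinearMap.add_apply, map_add, hp y hy, hr y hy, add_zero]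
      | monomial n a =>
        intro y hy
        rw [Polynomial.aeval_monomial, Algebra.algebraMap_eq_smul_one, smul_one_mul,
          LinearMap.rTensor_smul, LinearMap.smul_apply, map_smul]
        have : g.rTensor M ((θ ^ n).rTensor M y) = 0 := by
          induction n generalizing y with
          | zero => simpa [Module.End.one_eq_id] using hy
          | succ n ih =>
            rw [pow_succ, Module.End.mul_eq_comp, LinearMap.rTensor_comp, LinearMap.comp_apply]
            exact ih _ (hT y hy)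
        rw [this, smul_zero]
    refine ⟨h₁.rTensor M ((Polynomial.aeval θ q).rTensor M x), ?_⟩
    have h1 := hgen q x hx
    have h2 : θ.rTensor M ((Polynomial.aeval θ q).rTensor M x) = θ.charpoly.coeff 0 • x := by
      rw [← LinearMap.comp_apply, ← LinearMap.rTensor_comp, ← Module.End.mul_eq_comp, hq,
        LinearMap.rTensor_smul, LinearMap.smul_apply]
      simp [Module.End.one_eq_id]
    rw [← h2]
    show _ = (f ∘ₗ h₁ + h₂ ∘ₗ g).rTensor M _
    rw [LinearMap.rTensor_add, LinearMap.add_apply, LinearMap.rTensor_comp, LinearMap.rTensor_comp,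
      LinearMap.comp_apply, LinearMap.comp_apply, h1, map_zero, add_zero]

variable {R : Type u} [CommRing R]

/-- Exactness of a complex of finite free modules, universally, from the closed fibres. -/
theorem exactAt_tens_of_residue {P : DRing.Cx R} (hP : DRing.TermwiseFiniteFree P) (i : ℤ)
    (h : ∀ m : Ideal R, m.IsMaximal →
      (((ModuleCat.extendScalars.{u, u, u} (Ideal.Quotient.mk m)).mapHomologicalComplex
        (ComplexShape.up ℤ)).obj P).ExactAt i)
    (M : ModuleCat.{u} R) : ((tens M).obj P).ExactAt i := by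
  rw [HomologicalComplex.exactAt_iff' _ (i - 1) i (i + 1) (by simp) (by simp),
    ShortComplex.ShortExact.moduleCat_exact_iff_function_exact]
  intro x
  refine ⟨fun hx => ?_, fun ⟨y, hy⟩ => hy ▸ congr($(((tens M).obj P).d_comp_d (i - 1) i (i + 1)).hom y)⟩
  let f := (P.d (i - 1) i).hom
  let g := (P.d i (i + 1)).hom
  let J : Ideal R :=
    { carrier := {r | r • (show P.X i ⊗[R] M from x) ∈ LinearMap.range (f.rTensor M)}
      add_mem' := fun {r s} hr hs => by
        rw [Set.mem_ofPred_eq, add_smul]; exact add_mem hr hs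
      zero_mem' := by rw [Set.mem_ofPred_eq, zero_smul]; exact zero_mem _
      smul_mem' := fun c r hr => by
        rw [Set.mem_ofPred_eq, smul_eq_mul, mul_smul]; exact Submodule.smul_mem _ c hr }
  haveI := (hP i).1
  haveI := (hP i).2
  haveI := (hP (i + 1)).2
  have hJ : J = ⊤ := by
    by_contra hne
    obtain ⟨m, hm, hJm⟩ := Ideal.exists_le_maximal J hne
    letI := Ideal.Quotient.field m
    letI : Algebra R (R ⧸ m) := (Ideal.Quotient.mk m).toAlgebra
    have he := h m hm
    rw [HomologicalComplex.exactAt_iff' _ (i - 1) i (i + 1) (by simp) (by simp),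
      ShortComplex.ShortExact.moduleCat_exact_iff_function_exact] at he
    obtain ⟨δ, hδ, hkill⟩ := exists_smul_mem_range (k := R ⧸ m) Ideal.Quotient.mk_surjective f g
      (ModuleCat.hom_ext_iff.1 (P.d_comp_d (i - 1) i (i + 1))) he
    exact hδ (Ideal.Quotient.eq_zero_iff_mem.2 (hJm (hkill M x hx)))
  have h1 : (1 : R) • (show P.X i ⊗[R] M from x) ∈ LinearMap.range (f.rTensor M) :=
    show (1 : R) ∈ J by rw [hJ]; exact Submodule.mem_top
  rw [one_smul] at h1
  exact h1

/-- A pseudo-coherent object whose closed fibres live in `[a, b]` has tor amplitude in `[a, b]`. -/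
theorem ta_of_residue {K : Dual.D R} (hK : DRing.IsPseudoCoherent' R K) (a b : ℤ)
    [∀ m : Ideal R, DRing.HasLBaseChange (Ideal.Quotient.mk m)]
    (h : ∀ (m : Ideal R), m.IsMaximal → ∀ i : ℤ, (i < a ∨ b < i) →
      Subsingleton (Dual.HD (R ⧸ m) ((DRing.LBaseChange (Ideal.Quotient.mk m)).obj K) i)) :
    DRing.IsPerfect R K ∧ DRing.HasTorAmplitudeIn R a b K := by
  obtain ⟨P, c, hb, hF, ⟨e⟩⟩ := hK
  have hflat : DRing.TermwiseFlat P := fun i => haveI := (hF i).2; inferInstance
  have hta : DRing.HasTorAmplitudeIn R a b K := by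
    refine ta_of_tv (tv_of_rep hb hflat e fun M i hi => exactAt_tens_of_residue hF i (fun m hm => ?_) M)
    haveI := h m hm i hi
    exact (subsingleton_HD_toD_iff _ i).1 (PCoh.hEquiv i ((lbaseObj (Ideal.Quotient.mk m) P
      (isKFlat_of_flat hb hflat)).symm ≪≫ (DRing.LBaseChange _).mapIso e)).injective.subsingleton
  exact ⟨isPerfect_iff.2 ⟨⟨P, c, hb, hF, ⟨e⟩⟩, a, b, hta⟩, hta⟩

end Groth.Agent.H4DR.TorAmp
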