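import Groth.Agent.H4DR.KFlatMod
import Groth.Agent.H4DR.PCoh.Modules
import Groth.Agent.H16Derived.Resolution
import Mathlib.Algebra.Category.ModuleCat.Kernels
import Mathlib.CategoryTheory.Monoidal.Braided.Basic

/-!
# Tor amplitude through bounded above flat representatives

`TV a b K`: `K` has a bounded above cohomology and for every bounded above flat representative `P` the
complexes `P ⊗ M` are exact outside `[a, b]`.  This agrees with `DRing.HasTorAmplitudeIn`.
-/

set_option autoImplicit false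

universe u

open CategoryTheory CategoryTheory.Limits MonoidalCategory Pretriangulated TensorProduct
open Groth.Agent.H16Derived

attribute [local instance] HasDerivedCategory.standard

namespace Groth.Agent.H4DR.TorAmp

open Groth.Agent.H4DR.KFlatMod (bi)

variable {R : Type u} [CommRing R]

/-- `P ⊗ M` termwise. -/
noncomputable abbrev tens (M : ModuleCat.{u} R) : DRing.Cx R ⥤ DRing.Cx R :=
  (tensorRight M).mapHomologicalComplex (ComplexShape.up ℤ)

lemma acyclic_tens {W : DRing.Cx R} (hW : W.Acyclic) (hK : KFlat.IsKFlat (bi R) W)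
    (M : ModuleCat.{u} R) : ((tens M).obj W).Acyclic := by
  let L : DRing.Cx R := (HomologicalComplex.single (ModuleCat.{u} R) (ComplexShape.up ℤ) 0).obj M
  obtain ⟨P, r, hP, -, hr, -⟩ := KFlatMod.exists_resolution L
  have h := KFlat.acyclic_tot_of_acyclic_of_isKFlat (bi R) hW hK r (KFlatMod.isKFlat_flip hP)
  refine KFlat.acyclic_of_iso ?_ (KFlat.acyclic_of_iso (KFlat.singleLeftIso (bi R) L W
    fun p hp => HomologicalComplex.isZero_single_obj_X _ _ _ _ hp).symm h)
  exact (NatIso.mapHomologicalComplex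
    ((curriedTensor (ModuleCat.{u} R)).mapIso
      (HomologicalComplex.singleObjXSelf (ComplexShape.up ℤ) 0 M) ≪≫
        BraidedCategory.tensorLeftIsoTensorRight M) (ComplexShape.up ℤ)).app W

/-- A quasi-isomorphism of K-flat complexes stays one after tensoring with a module. -/
lemma quasiIso_tens {K L : DRing.Cx R} (f : K ⟶ L) [QuasiIso f] (hK : KFlat.IsKFlat (bi R) K)
    (hL : KFlat.IsKFlat (bi R) L) (M : ModuleCat.{u} R) : QuasiIso ((tens M).map f) :=
  KFlat.quasiIso_map_of_cone (tensorRight M) f fun h => acyclic_tens h (hK.mappingCone f hL) M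

lemma isKFlat_of_flat {P : DRing.Cx R} {c : ℤ} (hb : DRing.VanishesAbove P c)
    (hP : DRing.TermwiseFlat P) : KFlat.IsKFlat (bi R) P :=
  KFlatMod.isKFlat_of_boundedAbove P c hb hP

/-- A bounded above complex of projectives. -/
structure IsProjRep (P : DRing.Cx R) (c : ℤ) : Prop where
  above : DRing.VanishesAbove P c
  proj : ∀ i, Module.Projective R (P.X i)

lemma IsProjRep.flat {P : DRing.Cx R} {c : ℤ} (h : IsProjRep P c) : DRing.TermwiseFlat P :=
  fun i => haveI := h.proj i; inferInstance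

lemma IsProjRep.isKProjective {P : DRing.Cx R} {c : ℤ} (h : IsProjRep P c) :
    CochainComplex.IsKProjective P := by
  haveI : P.IsStrictlyLE c := (CochainComplex.isStrictlyLE_iff P c).2 h.above
  haveI : ∀ i, Projective (P.X i) := fun i => by haveI := h.proj i; infer_instance
  exact CochainComplex.isKProjective_of_projective P c

lemma exists_projRep {K : Dual.D R} {c : ℤ}
    (hc : ∀ i, c < i → Subsingleton (Dual.HD R K i)) :
    ∃ P : DRing.Cx R, IsProjRep P c ∧ Nonempty (DRing.toD P ≅ K) := by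
  haveI : K.IsLE c := (DerivedCategory.isLE_iff K c).2 fun i hi =>
    ModuleCat.isZero_of_iff_subsingleton.2 (hc i hi)
  obtain ⟨L, hL, ⟨e⟩⟩ := DerivedCategory.exists_iso_Q_obj_of_isLE K c
  obtain ⟨Q, α, h₁, h₂, -, hα⟩ := Resolution.exists_left_resolution
    (fun M : ModuleCat.{u} R => Module.Projective R M)
    ⟨ModuleCat.of R PUnit.{u + 1}, ModuleCat.isZero_of_subsingleton _, inferInstance⟩
    (fun X => ⟨ModuleCat.of R (X →₀ R), ModuleCat.ofHom (Finsupp.linearCombination R id),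
      inferInstanceAs (Module.Projective R (X →₀ R)),
      (ModuleCat.epi_iff_surjective _).2 (Finsupp.linearCombination_surjective _ Function.surjective_id)⟩)
    L c
  haveI := hα
  exact ⟨Q, ⟨fun i hi => Q.isZero_of_isStrictlyLE c i hi, h₂⟩,
    ⟨asIso (DerivedCategory.Q.map α) ≪≫ e.symm⟩⟩

lemma exists_qis {P P' : DRing.Cx R} {c : ℤ} (hP : IsProjRep P c)
    (e : DRing.toD P ≅ DRing.toD P') : ∃ f : P ⟶ P', QuasiIso f ∧ DerivedCategory.Q.map f = e.hom := by
  haveI := hP.isKProjective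
  obtain ⟨f, hf⟩ := ProjLift.Q_map_surjective P P' e.hom
  exact ⟨f, (DerivedCategory.isIso_Q_map_iff_quasiIso (φ := f)).1 (hf ▸ inferInstance), hf⟩

lemma exactAt_iff_of_rep {P P' : DRing.Cx R} {c c' : ℤ} (hP : IsProjRep P c)
    (hb : DRing.VanishesAbove P' c') (hf : DRing.TermwiseFlat P')
    (e : DRing.toD P ≅ DRing.toD P') (M : ModuleCat.{u} R) (i : ℤ) :
    ((tens M).obj P).ExactAt i ↔ ((tens M).obj P').ExactAt i := by
  obtain ⟨f, hf', -⟩ := exists_qis hP e
  have := quasiIso_tens f (isKFlat_of_flat hP.above hP.flat) (isKFlat_of_flat hb hf) M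
  haveI := this.quasiIsoAt i
  rw [HomologicalComplex.exactAt_iff_isZero_homology, HomologicalComplex.exactAt_iff_isZero_homology]
  exact (isoOfQuasiIsoAt ((tens M).map f) i).isZero_iff

/-- Tor amplitude, computed on bounded above projective representatives. -/
def TV (a b : ℤ) (K : Dual.D R) : Prop :=
  ∃ (P : DRing.Cx R) (c : ℤ), IsProjRep P c ∧ Nonempty (DRing.toD P ≅ K) ∧
    ∀ (M : ModuleCat.{u} R) (i : ℤ), (i < a ∨ b < i) → ((tens M).obj P).ExactAt i

lemma TV.exactAt {a b : ℤ} {K : Dual.D R} (h : TV a b K) {P : DRing.Cx R} {c : ℤ}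
    (hb : DRing.VanishesAbove P c) (hf : DRing.TermwiseFlat P) (e : DRing.toD P ≅ K)
    (M : ModuleCat.{u} R) {i : ℤ} (hi : i < a ∨ b < i) : ((tens M).obj P).ExactAt i := by
  obtain ⟨P₀, c₀, hP₀, ⟨e₀⟩, h₀⟩ := h
  exact (exactAt_iff_of_rep hP₀ hb hf (e₀ ≪≫ e.symm) M i).1 (h₀ M i hi)

lemma tv_of_rep {a b : ℤ} {K : Dual.D R} {P : DRing.Cx R} {c : ℤ}
    (hb : DRing.VanishesAbove P c) (hf : DRing.TermwiseFlat P) (e : DRing.toD P ≅ K)
    (h : ∀ (M : ModuleCat.{u} R) (i : ℤ), (i < a ∨ b < i) → ((tens M).obj P).ExactAt i) :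
    TV a b K := by
  have hv : ∀ i, c < i → Subsingleton (Dual.HD R K i) := fun i hi => by
    refine ModuleCat.subsingleton_of_isZero (IsZero.of_iso ?_ ((PCoh.H R i).mapIso e).symm)
    exact IsZero.of_iso ((HomologicalComplex.exactAt_iff _ _).2
      (ShortComplex.exact_of_isZero_X₂ _ (hb i hi))).isZero_homology
      ((DerivedCategory.homologyFunctorFactors (ModuleCat.{u} R) i).app P)
  obtain ⟨P₀, hP₀, ⟨e₀⟩⟩ := exists_projRep hv
  exact ⟨P₀, c, hP₀, ⟨e₀⟩, fun M i hi =>
    (exactAt_iff_of_rep hP₀ hb hf (e₀ ≪≫ e.symm) M i).2 (h M i hi)⟩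

lemma tv_of_ta {a b : ℤ} {K : Dual.D R} (h : DRing.HasTorAmplitudeIn R a b K) : TV a b K := by
  obtain ⟨E, hE, hf, ⟨e⟩⟩ := h
  exact tv_of_rep (c := b) (fun i hi => hE i (Or.inr hi)) hf e fun M i hi =>
    (HomologicalComplex.exactAt_iff _ _).2
      (ShortComplex.exact_of_isZero_X₂ _ ((tensorRight M).map_isZero (hE i hi)))

/-- The cokernel in degree `a` is flat when `P ⊗ M` is exact in degree `a - 1` for every `M`. -/
lemma flat_coker {P : DRing.Cx R} (hP : DRing.TermwiseFlat P) (a : ℤ)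
    (h : ∀ M : ModuleCat.{u} R, ((tens M).obj P).ExactAt (a - 1)) :
    Module.Flat R ((P.X a) ⧸ LinearMap.range (P.d (a - 1) a).hom) := by
  set d := (P.d (a - 1) a).hom
  set π := (LinearMap.range d).mkQ
  refine Module.Flat.iff_lTensor_preserves_injective_linearMap.2 fun M N _ _ _ _ f hf => ?_
  refine (injective_iff_map_eq_zero _).2 fun x hx => ?_
  obtain ⟨x', rfl⟩ := LinearMap.rTensor_surjective M (Submodule.mkQ_surjective (LinearMap.range d)) x
  have hd : Function.Exact d π := LinearMap.exact_map_mkQ_range d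
  obtain ⟨y, hy⟩ := (rTensor_exact N hd (Submodule.mkQ_surjective _) (f.lTensor (P.X a) x')).1 (by
    rw [← LinearMap.comp_apply, LinearMap.rTensor_comp_lTensor, ← LinearMap.lTensor_comp_rTensor,
      LinearMap.comp_apply, hx])
  let g : N →ₗ[R] N ⧸ LinearMap.range f := (LinearMap.range f).mkQ
  have hg : Function.Exact f g := LinearMap.exact_map_mkQ_range f
  have hex := (HomologicalComplex.exactAt_iff' ((tens (ModuleCat.of R (N ⧸ LinearMap.range f))).obj P)
    (a - 1 - 1) (a - 1) a (by simp) (by simp)).1 (h _)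
  rw [ShortComplex.ShortExact.moduleCat_exact_iff_function_exact] at hex
  obtain ⟨w, hw⟩ := (hex (g.lTensor (P.X (a - 1)) y)).1 (by
    show d.rTensor _ (g.lTensor (P.X (a - 1)) y) = 0
    rw [← LinearMap.comp_apply, LinearMap.rTensor_comp_lTensor, ← LinearMap.lTensor_comp_rTensor,
      LinearMap.comp_apply, hy]
    exact (lTensor_exact (P.X a) hg (Submodule.mkQ_surjective _)).apply_apply_eq_zero x')
  set d' := (P.d (a - 1 - 1) (a - 1)).hom
  change d'.rTensor _ w = _ at hw
  obtain ⟨z, rfl⟩ := LinearMap.lTensor_surjective (P.X (a - 1 - 1))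
    (Submodule.mkQ_surjective (LinearMap.range f)) w
  obtain ⟨y', hy'⟩ := (lTensor_exact (P.X (a - 1)) hg (Submodule.mkQ_surjective _)
    (y - d'.rTensor N z)).1 (by
      rw [map_sub, ← hw, ← LinearMap.comp_apply (g.lTensor _) (d'.rTensor N),
        LinearMap.lTensor_comp_rTensor, ← LinearMap.rTensor_comp_lTensor, LinearMap.comp_apply,
        sub_self])
  have hdd : d ∘ₗ d' = 0 := ModuleCat.hom_ext_iff.1 (P.d_comp_d (a - 1 - 1) (a - 1) a)
  haveI := hP a
  have : x' = d.rTensor M y' := by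
    apply Module.Flat.lTensor_preserves_injective_linearMap (M := P.X a) f hf
    rw [← LinearMap.comp_apply (f.lTensor _), LinearMap.lTensor_comp_rTensor,
      ← LinearMap.rTensor_comp_lTensor, LinearMap.comp_apply, hy', map_sub, hy,
      ← LinearMap.rTensor_comp_apply, hdd, LinearMap.rTensor_zero, LinearMap.zero_apply, sub_zero]
  rw [this, ← LinearMap.rTensor_comp_apply, hd.linearMap_comp_eq_zero, LinearMap.rTensor_zero,
    LinearMap.zero_apply]

lemma flat_opcycles {P : DRing.Cx R} (hP : DRing.TermwiseFlat P) (a : ℤ)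
    (h : ∀ M : ModuleCat.{u} R, ((tens M).obj P).ExactAt (a - 1)) :
    Module.Flat R (P.opcycles a) := by
  haveI : Module.Flat R (ModuleCat.cokernelCocone (P.d (a - 1) a)).pt := flat_coker hP a h
  exact Module.Flat.of_linearEquiv (N := P.opcycles a)
    (IsColimit.coconePointUniqueUpToIso (P.opcyclesIsCokernel (a - 1) a (by simp))
      (ModuleCat.cokernelIsColimit (P.d (a - 1) a))).toLinearEquiv

lemma exactAt_of_exactAt_tens_unit {P : DRing.Cx R} {i : ℤ}
    (h : ((tens (𝟙_ (ModuleCat.{u} R))).obj P).ExactAt i) : P.ExactAt i :=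
  h.of_iso ((NatIso.mapHomologicalComplex (rightUnitorNatIso (ModuleCat.{u} R)) _).app P ≪≫
    (Functor.mapHomologicalComplexIdIso _ _).app P)

lemma projective_ker_of_exact {P : DRing.Cx R} {c : ℤ} (hP : IsProjRep P c) (b : ℤ)
    (hex : ∀ i, b < i → P.ExactAt i) :
    ∀ (k : ℕ) (i : ℤ), b ≤ i → c ≤ i + k →
      Module.Projective R (LinearMap.ker (P.d i (i + 1)).hom) := by
  intro k
  induction k with
  | zero =>
    intro i _ hi
    have htop : LinearMap.ker (P.d i (i + 1)).hom = ⊤ := by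
      rw [(hP.above (i + 1) (by omega)).eq_of_tgt (P.d i (i + 1)) 0]; simp
    haveI := hP.proj i
    exact Module.Projective.of_equiv (LinearEquiv.ofTop _ htop).symm
  | succ k ih =>
    intro i hbi hi
    haveI := ih (i + 1) (by omega) (by omega)
    let g : P.X i →ₗ[R] LinearMap.ker (P.d (i + 1) (i + 1 + 1)).hom :=
      (P.d i (i + 1)).hom.codRestrict _ fun x =>
        LinearMap.mem_ker.2 (congr($(P.d_comp_d i (i + 1) (i + 1 + 1)).hom x))
    have hg : Function.Surjective g := fun ⟨y, hy⟩ => by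
      have h := (HomologicalComplex.exactAt_iff' P i (i + 1) (i + 1 + 1) (by simp) (by simp)).1
        (hex (i + 1) (by omega))
      rw [ShortComplex.ShortExact.moduleCat_exact_iff_function_exact] at h
      obtain ⟨x, hx⟩ := (h y).1 (LinearMap.mem_ker.1 hy)
      exact ⟨x, Subtype.ext hx⟩
    obtain ⟨s, hs⟩ := Module.projective_lifting_property g LinearMap.id hg
    haveI := hP.proj i
    refine Module.Projective.of_split (LinearMap.ker (P.d i (i + 1)).hom).subtype
      ((LinearMap.id - s ∘ₗ g).codRestrict _ fun x => LinearMap.mem_ker.2 (congrArg Subtype.val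
        (show g (x - s (g x)) = 0 by
          rw [map_sub, ← LinearMap.comp_apply g s, hs, LinearMap.id_apply, sub_self])))
      (LinearMap.ext fun x => Subtype.ext ?_)
    show (x : P.X i) - s (g x) = x
    rw [show g (x : P.X i) = 0 from Subtype.ext (LinearMap.mem_ker.1 x.2), map_zero, sub_zero]

/-- Cut a projective representative at the top. -/
lemma exists_truncLE {P : DRing.Cx R} {c : ℤ} (hP : IsProjRep P c) (b : ℤ)
    (hex : ∀ i, b < i → P.ExactAt i) :
    ∃ P' : DRing.Cx R, IsProjRep P' b ∧ Nonempty (DRing.toD P' ≅ DRing.toD P) := by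
  refine ⟨P.truncLE b, ⟨fun i hi => (P.truncLE b).isZero_of_isStrictlyLE b i hi, fun i => ?_⟩, ?_⟩
  · rcases lt_trichotomy i b with h | rfl | h
    · haveI := hP.proj i
      exact Module.Projective.of_equiv (P.truncLEXIso b i h).toLinearEquiv.symm
    · haveI : Module.Projective R (ModuleCat.kernelCone (P.d i (i + 1))).pt :=
        projective_ker_of_exact hP i hex (c - i).toNat i le_rfl (by omega)
      exact Module.Projective.of_equiv (P.truncLEXIsoCycles i ≪≫
        IsLimit.conePointUniqueUpToIso (P.cyclesIsKernel i (i + 1) (by simp))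
          (ModuleCat.kernelIsLimit (P.d i (i + 1)))).toLinearEquiv.symm
    · haveI := ModuleCat.subsingleton_of_isZero ((P.truncLE b).isZero_of_isStrictlyLE b i h)
      infer_instance
  · haveI : P.IsLE b := (CochainComplex.isLE_iff P b).2 hex
    exact ⟨asIso (DerivedCategory.Q.map (P.ιTruncLE b))⟩

/-- The flat representative in `[a, b]`. -/
theorem ta_of_tv {a b : ℤ} {K : Dual.D R} (h : TV a b K) : DRing.HasTorAmplitudeIn R a b K := by
  obtain ⟨P₀, c, hP₀, ⟨e₀⟩, h₀⟩ := h
  obtain ⟨P, hP, ⟨e'⟩⟩ := exists_truncLE hP₀ b fun i hi =>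
    exactAt_of_exactAt_tens_unit (h₀ _ i (Or.inr hi))
  have hTV : TV a b K := ⟨P₀, c, hP₀, ⟨e₀⟩, h₀⟩
  have hex : ∀ (M : ModuleCat.{u} R) (i : ℤ), i < a → ((tens M).obj P).ExactAt i := fun M i hi =>
    hTV.exactAt hP.above hP.flat (e' ≪≫ e₀) M (Or.inl hi)
  refine ⟨P.truncGE a, fun i hi => ?_, fun i => ?_, ⟨?_ ≪≫ e' ≪≫ e₀⟩⟩
  · rcases hi with hi | hi
    · exact (P.truncGE a).isZero_of_isStrictlyGE a i hi
    · by_cases hai : a < i
      · exact (hP.above i hi).of_iso (P.truncGEXIso a i hai)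
      · rcases lt_or_eq_of_le (not_lt.1 hai) with h | rfl
        · exact (P.truncGE a).isZero_of_isStrictlyGE a i h
        · haveI : Subsingleton (P.X i) := ModuleCat.subsingleton_of_isZero (hP.above i hi)
          refine IsZero.of_iso ?_ (P.truncGEXIsoOpcycles i ≪≫
            IsColimit.coconePointUniqueUpToIso (P.opcyclesIsCokernel (i - 1) i (by simp))
              (ModuleCat.cokernelIsColimit (P.d (i - 1) i)))
          haveI : Subsingleton (ModuleCat.cokernelCocone (P.d (i - 1) i)).pt :=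
            (Submodule.mkQ_surjective (LinearMap.range (P.d (i - 1) i).hom)).subsingleton
          exact ModuleCat.isZero_of_subsingleton _
  · rcases lt_trichotomy a i with h | rfl | h
    · haveI := hP.flat i
      exact Module.Flat.of_linearEquiv (P.truncGEXIso a i h).toLinearEquiv
    · haveI := flat_opcycles hP.flat a (fun M => hex M (a - 1) (by omega))
      exact Module.Flat.of_linearEquiv (P.truncGEXIsoOpcycles a).toLinearEquiv
    · haveI := ModuleCat.subsingleton_of_isZero ((P.truncGE a).isZero_of_isStrictlyGE a i h)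
      infer_instance
  · haveI : P.IsGE a := (CochainComplex.isGE_iff P a).2 fun i hi =>
      exactAt_of_exactAt_tens_unit (hex _ i hi)
    exact (asIso (DerivedCategory.Q.map (P.πTruncGE a))).symm

theorem tv_iff {a b : ℤ} {K : Dual.D R} : TV a b K ↔ DRing.HasTorAmplitudeIn R a b K :=
  ⟨ta_of_tv, tv_of_ta⟩

lemma ta_of_iso {a b : ℤ} {K L : Dual.D R} (e : K ≅ L) (h : DRing.HasTorAmplitudeIn R a b K) :
    DRing.HasTorAmplitudeIn R a b L := by
  obtain ⟨E, h₁, h₂, ⟨e'⟩⟩ := h
  exact ⟨E, h₁, h₂, ⟨e' ≪≫ e⟩⟩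

lemma ta_mono {a b a' b' : ℤ} (ha : a' ≤ a) (hb : b ≤ b') {K : Dual.D R}
    (h : DRing.HasTorAmplitudeIn R a b K) : DRing.HasTorAmplitudeIn R a' b' K := by
  obtain ⟨E, h₁, h₂, e⟩ := h
  exact ⟨E, fun i hi => h₁ i (by omega), h₂, e⟩

lemma ta_shift {a b a' b' : ℤ} (n : ℤ) (ha : n + a' = a) (hb : n + b' = b) {K : Dual.D R}
    (h : DRing.HasTorAmplitudeIn R a b K) : DRing.HasTorAmplitudeIn R a' b' (K⟦n⟧) := by
  obtain ⟨E, h₁, h₂, ⟨e⟩⟩ := h
  exact ⟨E⟦n⟧, fun i hi => show IsZero (E.X (i + n)) from h₁ _ (by omega), fun i => h₂ (i + n),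
    ⟨(DerivedCategory.Q.commShiftIso n).app E ≪≫ (shiftFunctor (Dual.D R) n).mapIso e⟩⟩

lemma ta_of_shift {a b a' b' : ℤ} (n : ℤ) (ha : n + a' = a) (hb : n + b' = b) {K : Dual.D R}
    (h : DRing.HasTorAmplitudeIn R a' b' (K⟦n⟧)) : DRing.HasTorAmplitudeIn R a b K :=
  ta_of_iso (shiftShiftNeg K n) (ta_shift (a' := a) (b' := b) (-n) (by omega) (by omega) h)

lemma bound_of_ta {a b : ℤ} {K : Dual.D R} (h : DRing.HasTorAmplitudeIn R a b K) (i : ℤ)
    (hi : i < a ∨ b < i) : Subsingleton (Dual.HD R K i) := by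
  obtain ⟨E, h₁, -, ⟨e⟩⟩ := h
  refine ModuleCat.subsingleton_of_isZero (IsZero.of_iso ?_ ((PCoh.H R i).mapIso e).symm)
  exact IsZero.of_iso ((HomologicalComplex.exactAt_iff _ _).2
    (ShortComplex.exact_of_isZero_X₂ _ (h₁ i hi))).isZero_homology
    ((DerivedCategory.homologyFunctorFactors (ModuleCat.{u} R) i).app E)

lemma cone_isProjRep {P Q : DRing.Cx R} {c c' : ℤ} (hP : IsProjRep P c) (hQ : IsProjRep Q c')
    (f : P ⟶ Q) : IsProjRep (CochainComplex.mappingCone f) (max c c') := by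
  refine ⟨fun i hi => ?_, fun i => ?_⟩
  · exact IsZero.of_iso ((biprod_isZero_iff _ _).2
      ⟨hP.above (i + 1) (by omega), hQ.above i (by omega)⟩)
      (HomologicalComplex.homotopyCofiber.XIsoBiprod f i (i + 1) rfl)
  · haveI := hP.proj (i + 1)
    haveI := hQ.proj i
    exact Module.Projective.of_equiv
      (HomologicalComplex.homotopyCofiber.XIsoBiprod f i (i + 1) rfl ≪≫
        ModuleCat.biprodIsoProd _ _).toLinearEquiv.symm

/-- Two out of three. -/
theorem ta_obj₃ {a b : ℤ} (T : Triangle (Dual.D R)) (hT : T ∈ distTriang _)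
    (h₁ : DRing.HasTorAmplitudeIn R (a + 1) (b + 1) T.obj₁)
    (h₂ : DRing.HasTorAmplitudeIn R a b T.obj₂) : DRing.HasTorAmplitudeIn R a b T.obj₃ := by
  obtain ⟨P₁, hP₁, ⟨e₁⟩⟩ := exists_projRep (c := b + 1) fun i hi => bound_of_ta h₁ i (Or.inr hi)
  obtain ⟨P₂, hP₂, ⟨e₂⟩⟩ := exists_projRep (c := b) fun i hi => bound_of_ta h₂ i (Or.inr hi)
  haveI := hP₁.isKProjective
  obtain ⟨f, hf⟩ := ProjLift.Q_map_surjective P₁ P₂ (e₁.hom ≫ T.mor₁ ≫ e₂.inv)
  let T' := DerivedCategory.Q.mapTriangle.obj (CochainComplex.mappingCone.triangle f)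
  have hT' : T' ∈ distTriang _ := (DerivedCategory.mem_distTriang_iff _).2 ⟨_, _, f, ⟨Iso.refl _⟩⟩
  have hc : T'.mor₁ ≫ e₂.hom = e₁.hom ≫ T.mor₁ := by
    change DerivedCategory.Q.map f ≫ e₂.hom = _
    rw [hf, Category.assoc, Category.assoc, e₂.inv_hom_id, Category.comp_id]
  let φ := completeDistinguishedTriangleMorphism T' T hT' hT e₁.hom e₂.hom hc
  have h3 : IsIso φ.hom₃ := isIso₃_of_isIso₁₂ φ hT' hT (inferInstanceAs (IsIso e₁.hom))
    (inferInstanceAs (IsIso e₂.hom))
  refine ta_of_tv ⟨_, _, cone_isProjRep hP₁ hP₂ f, ⟨@asIso _ _ _ _ φ.hom₃ h3⟩, fun M i hi => ?_⟩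
  have k₁ := (tv_of_ta h₁).exactAt hP₁.above hP₁.flat e₁ M (i := i + 1) (by omega)
  have k₂ := (tv_of_ta h₂).exactAt hP₂.above hP₂.flat e₂ M hi
  let g := (tens M).map f
  have hTg : DerivedCategory.Q.mapTriangle.obj (CochainComplex.mappingCone.triangle g) ∈ distTriang _ :=
    (DerivedCategory.mem_distTriang_iff _).2 ⟨_, _, g, ⟨Iso.refl _⟩⟩
  have sub : ∀ (X : DRing.Cx R) (j : ℤ), X.ExactAt j → Subsingleton (Dual.HD R (DRing.toD X) j) :=
    fun X j hX => ModuleCat.subsingleton_of_isZero (IsZero.of_iso hX.isZero_homology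
      ((DerivedCategory.homologyFunctorFactors (ModuleCat.{u} R) j).app X))
  have k₃ := PCoh.subsingleton₃ _ hTg i (i + 1) rfl (sub _ _ k₁) (sub _ _ k₂)
  refine HomologicalComplex.ExactAt.of_iso ?_
    (CochainComplex.mappingCone.mapHomologicalComplexIso f (tensorRight M)).symm
  rw [HomologicalComplex.exactAt_iff_isZero_homology]
  exact (@ModuleCat.isZero_of_subsingleton R _
      ((PCoh.H R i).obj (DRing.toD (CochainComplex.mappingCone g))) k₃).of_iso
    ((DerivedCategory.homologyFunctorFactors (ModuleCat.{u} R) i).app _).symm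

theorem ta_obj₂ {a b : ℤ} (T : Triangle (Dual.D R)) (hT : T ∈ distTriang _)
    (h₁ : DRing.HasTorAmplitudeIn R a b T.obj₁) (h₃ : DRing.HasTorAmplitudeIn R a b T.obj₃) :
    DRing.HasTorAmplitudeIn R a b T.obj₂ :=
  ta_obj₃ T.invRotate (inv_rot_of_distTriang _ hT) (ta_shift (-1) (by omega) (by omega) h₃) h₁

theorem ta_obj₁ {a b : ℤ} (T : Triangle (Dual.D R)) (hT : T ∈ distTriang _)
    (h₂ : DRing.HasTorAmplitudeIn R (a + 1) (b + 1) T.obj₂)
    (h₃ : DRing.HasTorAmplitudeIn R a b T.obj₃) :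
    DRing.HasTorAmplitudeIn R (a + 1) (b + 1) T.obj₁ :=
  ta_of_shift 1 (by omega) (by omega) (ta_obj₃ T.rotate (rot_of_distTriang _ hT) h₂ h₃)

/-- Retracts. -/
theorem ta_of_retract {a b : ℤ} {K L : Dual.D R} (i : K ⟶ L) (r : L ⟶ K) (hir : i ≫ r = 𝟙 K)
    (h : DRing.HasTorAmplitudeIn R a b L) : DRing.HasTorAmplitudeIn R a b K := by
  have hv : ∀ j, b < j → Subsingleton (Dual.HD R K j) := fun j hj => by
    haveI := bound_of_ta h j (Or.inr hj)
    have h1 : Function.LeftInverse (PCoh.hm j r) (PCoh.hm j i) := fun x => by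
      rw [← PCoh.hm_comp_apply, hir, PCoh.hm_id]; rfl
    exact h1.injective.subsingleton
  obtain ⟨P, hP, ⟨e⟩⟩ := exists_projRep hv
  obtain ⟨Q, hQ, ⟨e'⟩⟩ := exists_projRep (c := b) fun j hj => bound_of_ta h j (Or.inr hj)
  haveI := hP.isKProjective
  haveI := hQ.isKProjective
  obtain ⟨i', hi'⟩ := ProjLift.Q_map_surjective P Q (e.hom ≫ i ≫ e'.inv)
  obtain ⟨r', hr'⟩ := ProjLift.Q_map_surjective Q P (e'.hom ≫ r ≫ e.inv)
  obtain ⟨H⟩ := ProjLift.homotopic_of_Q_map P P (i' ≫ r') (𝟙 P) (by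
    rw [Functor.map_comp, hi', hr', CategoryTheory.Functor.map_id]
    simp [reassoc_of% hir])
  refine ta_of_tv ⟨P, b, hP, ⟨e⟩, fun M j hj => ?_⟩
  have hq := ((tv_of_ta h).exactAt hQ.above hQ.flat e' M hj).isZero_homology
  rw [HomologicalComplex.exactAt_iff_isZero_homology, IsZero.iff_id_eq_zero]
  have := ((tensorRight M).mapHomotopy H).homologyMap_eq j
  rw [CategoryTheory.Functor.map_comp, CategoryTheory.Functor.map_id, HomologicalComplex.homologyMap_comp,
    HomologicalComplex.homologyMap_id] at this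
  rw [← this, hq.eq_of_tgt (HomologicalComplex.homologyMap ((tens M).map i') j) 0, zero_comp]

end Groth.Agent.H4DR.TorAmp
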