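import Groth.Agent.H4DR.TorAmp.Derived
import Groth.Agent.H4DR.PCoh.Extend

/-!
# Tor amplitude, change of rings
-/

set_option autoImplicit false
set_option linter.style.haveILetI false

universe u

open CategoryTheory CategoryTheory.Limits MonoidalCategory TensorProduct
open Groth.Agent.H16Derived

attribute [local instance] HasDerivedCategory.standard

namespace Groth.Agent.H4DR.TorAmp

open Groth.Agent.H4DR.KFlatMod (bi)

variable {A B : Type u} [CommRing A] [CommRing B] (φ : A →+* B)

/-- `(X ⊗_A B) ⊗_B N ≅ X ⊗_A N` over `A`. -/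
noncomputable def extTensIso (N : ModuleCat.{u} B) :
    ModuleCat.extendScalars.{u, u, u} φ ⋙ tensorRight N ⋙ ModuleCat.restrictScalars.{u} φ ≅
      tensorRight ((ModuleCat.restrictScalars.{u} φ).obj N) :=
  letI := φ.toAlgebra
  letI : Module A N := Module.compHom N φ
  haveI : IsScalarTower A B N := .of_algebraMap_smul fun _ _ => rfl
  NatIso.ofComponents (fun X =>
    let e₁ : (B ⊗[A] X) ⊗[B] N ≃ₗ[B] N ⊗[A] X :=
      (TensorProduct.comm B _ _).trans (TensorProduct.AlgebraTensorModule.cancelBaseChange A B B N X)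
    let X₁ : ModuleCat.{u} A := (ModuleCat.restrictScalars.{u} φ).obj
      ((tensorRight N).obj ((ModuleCat.extendScalars.{u, u, u} φ).obj X))
    let X₂ : ModuleCat.{u} A := (tensorRight ((ModuleCat.restrictScalars.{u} φ).obj N)).obj X
    let e : X₁ ≃ₗ[A] X₂ :=
      { toFun := fun z => TensorProduct.comm A N X (e₁ z)
        invFun := fun z => e₁.symm ((TensorProduct.comm A N X).symm z)
        map_add' := fun z w => (congrArg (TensorProduct.comm A N X) (e₁.map_add z w)).trans
          (map_add _ _ _)
        map_smul' := fun r z => (congrArg (TensorProduct.comm A N X)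
          ((e₁.map_smul (φ r) z).trans (algebraMap_smul B r (e₁ z)))).trans (map_smul _ _ _)
        left_inv := fun z => (congrArg e₁.symm ((TensorProduct.comm A N X).symm_apply_apply _)).trans
          (e₁.symm_apply_apply z)
        right_inv := fun z => (congrArg (TensorProduct.comm A N X) (e₁.apply_symm_apply _)).trans
          ((TensorProduct.comm A N X).apply_symm_apply z) }
    e.toModuleIso)
    (fun {X Y} g => by
      refine ModuleCat.hom_ext (LinearMap.ext fun z => ?_)
      induction z using TensorProduct.induction_on with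
      | zero => exact (map_zero _).trans (map_zero _).symm
      | add a b ha hb =>
        exact (map_add _ a b).trans ((congrArg₂ (· + ·) ha hb).trans (map_add _ a b).symm)
      | tmul w n =>
        induction w using TensorProduct.induction_on with
        | zero =>
          erw [TensorProduct.zero_tmul]; exact (map_zero _).trans (map_zero _).symm
        | add a b ha hb =>
          erw [TensorProduct.add_tmul]
          exact (map_add _ _ _).trans ((congrArg₂ (· + ·) ha hb).trans (map_add _ _ _).symm)
        | tmul r x => rfl)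

lemma exactAt_restrict_iff (W : DRing.Cx B) (i : ℤ) :
    (((ModuleCat.restrictScalars.{u} φ).mapHomologicalComplex (ComplexShape.up ℤ)).obj W).ExactAt i ↔
      W.ExactAt i := by
  rw [HomologicalComplex.exactAt_iff, HomologicalComplex.exactAt_iff]
  exact (ShortComplex.exact_iff_exact_map_forget₂ _).trans
    (ShortComplex.exact_iff_exact_map_forget₂ (W.sc i)).symm

lemma exactAt_map_iff (F : ModuleCat.{u} A ⥤ ModuleCat.{u} B) [F.Additive]
    [PreservesFiniteLimits F] [PreservesFiniteColimits F] (W : DRing.Cx A) (i : ℤ) :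
    ((F.mapHomologicalComplex (ComplexShape.up ℤ)).obj W).ExactAt i ↔ IsZero (F.obj (W.homology i)) := by
  rw [HomologicalComplex.exactAt_iff_isZero_homology]
  exact ((PCoh.homologyMapIso F i).app W).isZero_iff

/-- `X ⊗ res (M ⊗_A B)` is `res ((X ⊗ M) ⊗_A B)`. -/
noncomputable def tensExtIso (M : ModuleCat.{u} A) :
    tensorRight M ⋙ ModuleCat.extendScalars.{u, u, u} φ ⋙ ModuleCat.restrictScalars.{u} φ ≅
      tensorRight ((ModuleCat.restrictScalars.{u} φ).obj ((ModuleCat.extendScalars.{u, u, u} φ).obj M)) :=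
  let B' := (ModuleCat.restrictScalars.{u} φ).obj (ModuleCat.of B B)
  Functor.isoWhiskerLeft (tensorRight M)
      (H25DTen.extResIso φ ≪≫ BraidedCategory.tensorLeftIsoTensorRight B') ≪≫
    (tensorRightTensor M B').symm ≪≫
    (curriedTensor (ModuleCat.{u} A)).flip.mapIso (β_ M B' ≪≫ ((H25DTen.extResIso φ).app M).symm)

/-- The tor amplitude of `K` follows from the one of its flat base changes, jointly conservative. -/
theorem ta_descent {ι : Type*} (R : ι → Type u) [∀ k, CommRing (R k)] (φ : ∀ k, A →+* R k)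
    (hflat : ∀ k, (φ k).Flat)
    (hcons : ∀ X : ModuleCat.{u} A,
      (∀ k, IsZero ((ModuleCat.extendScalars.{u, u, u} (φ k)).obj X)) → IsZero X)
    (K : DRing.Cx A) (a b : ℤ)
    (hK : ∀ k, DRing.HasTorAmplitudeIn (R k) a b (DRing.toD
      (((ModuleCat.extendScalars.{u, u, u} (φ k)).mapHomologicalComplex (ComplexShape.up ℤ)).obj K))) :
    DRing.HasTorAmplitudeIn A a b (DRing.toD K) := by
  haveI : ∀ k, PreservesFiniteLimits (ModuleCat.extendScalars.{u, u, u} (φ k)) := fun k =>
    ModuleCat.preservesFiniteLimits_extendScalars_of_flat (hflat k)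
  have hv : ∀ i, b < i → Subsingleton (Dual.HD A (DRing.toD K) i) := fun i hi => by
    rw [subsingleton_HD_toD_iff, HomologicalComplex.exactAt_iff_isZero_homology]
    refine hcons _ fun k => (exactAt_map_iff _ K i).1 ?_
    exact (subsingleton_HD_toD_iff _ i).1 (bound_of_ta (hK k) i (Or.inr hi))
  obtain ⟨P, hP, ⟨e⟩⟩ := exists_projRep hv
  obtain ⟨f, hf, -⟩ := exists_qis hP e
  refine ta_of_tv ⟨P, b, hP, ⟨e⟩, fun M i hi => ?_⟩
  rw [HomologicalComplex.exactAt_iff_isZero_homology]
  refine hcons _ fun k => (exactAt_map_iff _ _ i).1 ?_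
  let F := ModuleCat.extendScalars.{u, u, u} (φ k)
  haveI hf' : QuasiIso ((F.mapHomologicalComplex (ComplexShape.up ℤ)).map f) :=
    haveI := hf
    inferInstance
  let e' : DRing.toD ((F.mapHomologicalComplex (ComplexShape.up ℤ)).obj P) ≅
      DRing.toD ((F.mapHomologicalComplex (ComplexShape.up ℤ)).obj K) :=
    asIso (DerivedCategory.Q.map ((F.mapHomologicalComplex (ComplexShape.up ℤ)).map f))
  have hflatP : DRing.TermwiseFlat ((F.mapHomologicalComplex (ComplexShape.up ℤ)).obj P) := fun j => by
    letI := (φ k).toAlgebra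
    haveI := hP.flat j
    exact inferInstanceAs (Module.Flat (R k) (TensorProduct A (R k) (P.X j)))
  have h := (tv_of_ta (hK k)).exactAt (fun j hj => F.map_isZero (hP.above j hj)) hflatP e'
    (F.obj M) hi
  rw [← exactAt_restrict_iff (φ k)] at h ⊢
  refine HomologicalComplex.ExactAt.of_iso ?_
    ((NatIso.mapHomologicalComplex (tensExtIso (φ k) M).symm (ComplexShape.up ℤ)).app P)
  exact h.of_iso ((NatIso.mapHomologicalComplex (extTensIso (φ k) (F.obj M))
    (ComplexShape.up ℤ)).app P)

/-- Restriction of scalars along an algebra of tor dimension at most `d`. -/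
theorem ta_restrict [Algebra A B] {d : ℕ} (hB : DRing.HasTorAmplitudeIn A (-(d : ℤ)) 0 (Dual.inD A B))
    {K : Dual.D B} {a b : ℤ} (hK : DRing.HasTorAmplitudeIn B a b K) :
    DRing.HasTorAmplitudeIn A (a - d) b ((DRing.restrictD (algebraMap A B)).obj K) := by
  obtain ⟨E, hE, hf, ⟨e⟩⟩ := hK
  let G := ModuleCat.restrictScalars.{u} (algebraMap A B)
  refine ta_of_iso (G.mapDerivedCategoryFactors.symm.app E ≪≫ G.mapDerivedCategory.mapIso e) ?_
  refine ta_of_terms (b + 1 - a).toNat a (fun i hi => G.map_isZero (hE i (by omega))) fun i => ?_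
  by_cases hi : i < a ∨ b < i
  · exact ta_of_isZero ((DerivedCategory.singleFunctor (ModuleCat.{u} A) 0).map_isZero
      (G.map_isZero (hE i hi)))
  · refine ta_mono (by omega) (by omega) ((ta_inD_iff d (G.obj (E.X i))).2 ?_)
    letI : Module A (E.X i) := Module.compHom (E.X i) (algebraMap A B)
    haveI : IsScalarTower A B (E.X i) := .of_algebraMap_smul fun _ _ => rfl
    haveI := hf i
    exact H8Props.PseudoCoh.hasTorDimLE_of_flat_algebra
      ((ta_inD_iff d (ModuleCat.of A B)).1 hB) (E.X i)

/-- Flat extension of scalars. -/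
theorem ta_extend (hφ : φ.Flat) {a b : ℤ} {K : Dual.D A} (h : DRing.HasTorAmplitudeIn A a b K) :
    haveI : PreservesFiniteLimits (ModuleCat.extendScalars.{u, u, u} φ) :=
      ModuleCat.preservesFiniteLimits_extendScalars_of_flat hφ
    DRing.HasTorAmplitudeIn B a b ((ModuleCat.extendScalars.{u, u, u} φ).mapDerivedCategory.obj K) := by
  haveI : PreservesFiniteLimits (ModuleCat.extendScalars.{u, u, u} φ) :=
    ModuleCat.preservesFiniteLimits_extendScalars_of_flat hφ
  obtain ⟨E, hE, hf, ⟨e⟩⟩ := h
  refine ⟨_, fun i hi => (ModuleCat.extendScalars.{u, u, u} φ).map_isZero (hE i hi), fun i => ?_,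
    ⟨(ModuleCat.extendScalars.{u, u, u} φ).mapDerivedCategoryFactors.symm.app E ≪≫
      (ModuleCat.extendScalars.{u, u, u} φ).mapDerivedCategory.mapIso e⟩⟩
  letI := φ.toAlgebra
  haveI := hf i
  exact inferInstanceAs (Module.Flat B (TensorProduct A B (E.X i)))

theorem ta_inD_extend (hφ : φ.Flat) {a b : ℤ} (M : ModuleCat.{u} A)
    (h : DRing.HasTorAmplitudeIn A a b (Dual.inD A M)) :
    DRing.HasTorAmplitudeIn B a b (Dual.inD B ((ModuleCat.extendScalars.{u, u, u} φ).obj M)) :=
  haveI : PreservesFiniteLimits (ModuleCat.extendScalars.{u, u, u} φ) :=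
    ModuleCat.preservesFiniteLimits_extendScalars_of_flat hφ
  ta_of_iso (((ModuleCat.extendScalars.{u, u, u} φ).mapDerivedCategorySingleFunctor 0).app M)
    (ta_extend φ hφ h)

end Groth.Agent.H4DR.TorAmp
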