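import Groth.Agent.H4DR.TorAmp.PerfectChange

/-!
# Extension of scalars to the rings of a covering family
-/

set_option autoImplicit false
set_option linter.style.haveILetI false

universe u

open CategoryTheory CategoryTheory.Limits MonoidalCategory TensorProduct

namespace Groth.Agent.H4DR.TorAmp

variable {A : Type u} [CommRing A]

lemma subsingleton_tensor_of_ext (B : Type u) [CommRing B] [Algebra A B] (X : ModuleCat.{u} A)
    (h : Subsingleton ((ModuleCat.extendScalars.{u, u, u} (algebraMap A B)).obj X)) :
    Subsingleton (B ⊗[A] X) := by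
  have e : (algebraMap A B).toAlgebra = (inferInstance : Algebra A B) :=
    Algebra.algebra_ext _ _ fun _ => rfl
  have h' : letI := (algebraMap A B).toAlgebra; Subsingleton (B ⊗[A] X) := h
  rw [e] at h'; exact h'

lemma finite_tensor_of_ext (B : Type u) [CommRing B] [Algebra A B] (X : ModuleCat.{u} A)
    (h : Module.Finite B ((ModuleCat.extendScalars.{u, u, u} (algebraMap A B)).obj X)) :
    Module.Finite B (B ⊗[A] X) := by
  have e : (algebraMap A B).toAlgebra = (inferInstance : Algebra A B) :=
    Algebra.algebra_ext _ _ fun _ => rfl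
  have h' : letI := (algebraMap A B).toAlgebra; Module.Finite B (B ⊗[A] X) := h
  rw [e] at h'; exact h'

/-- Standard opens covering the spectrum are jointly conservative. -/
lemma isZero_of_span {r : ℕ} (f : Fin r → A) (hf : Ideal.span (Set.range f) = ⊤) (X : ModuleCat.{u} A)
    (hX : ∀ i, IsZero ((ModuleCat.extendScalars.{u, u, u}
      (algebraMap A (Localization.Away (f i)))).obj X)) : IsZero X := by
  refine @ModuleCat.isZero_of_subsingleton A _ X (subsingleton_of_forall_eq 0 fun x => ?_)
  have key : ∀ i, ∃ n : ℕ, f i ^ n • x = 0 := fun i => by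
    haveI := subsingleton_tensor_of_ext (Localization.Away (f i)) X
      (ModuleCat.subsingleton_of_isZero (hX i))
    let g := TensorProduct.mk A (Localization.Away (f i)) X 1
    obtain ⟨c, hc⟩ := (IsLocalizedModule.eq_zero_iff (Submonoid.powers (f i)) g).1
      (Subsingleton.elim (g x) 0)
    obtain ⟨n, hn⟩ := c.2
    exact ⟨n, by rw [show f i ^ n = (c : A) from hn]; exact hc⟩
  have hann : Ideal.span (Set.range f) ≤ (Submodule.span A {x}).annihilator.radical := by
    rw [Ideal.span_le]
    rintro - ⟨i, rfl⟩
    obtain ⟨n, hn⟩ := key i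
    exact ⟨n, (Submodule.mem_annihilator_span_singleton x _).2 hn⟩
  rw [hf, top_le_iff, Ideal.radical_eq_top] at hann
  have h1 := (Submodule.mem_annihilator_span_singleton x (1 : A)).1 (hann ▸ Submodule.mem_top)
  simpa using h1

/-- Finiteness is local on standard opens. -/
lemma finite_of_span {r : ℕ} (f : Fin r → A) (hf : Ideal.span (Set.range f) = ⊤) (X : ModuleCat.{u} A)
    (hX : ∀ i, Module.Finite (Localization.Away (f i)) ((ModuleCat.extendScalars.{u, u, u}
      (algebraMap A (Localization.Away (f i)))).obj X)) : Module.Finite A X :=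
  Module.Finite.of_localizationSpan' (Set.range f) hf
    (Rₚ := fun g : Set.range f => Localization.Away (g : A))
    (Mₚ := fun g : Set.range f => Localization.Away (g : A) ⊗[A] X)
    (fun g => TensorProduct.mk A (Localization.Away (g : A)) X 1) fun g => by
      obtain ⟨-, i, rfl⟩ := g
      exact finite_tensor_of_ext (Localization.Away (f i)) X (hX i)

end Groth.Agent.H4DR.TorAmp
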