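import Groth.Agent.H4DR.TorAmp.Basic
import Groth.Agent.H8Props.PseudoCoh.TorDim

/-!
# Tor amplitude of modules, and from terms or cohomology
-/

set_option autoImplicit false
set_option linter.style.haveILetI false

universe u

open CategoryTheory CategoryTheory.Limits MonoidalCategory Pretriangulated
open Groth.Agent.H16Derived
open Groth.Agent.H8Props.PseudoCoh (hasTorDimLE_succ_iff hasTorDimLE_zero_iff)
open scoped ZeroObject

attribute [local instance] HasDerivedCategory.standard

namespace Groth.Agent.H4DR.TorAmp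

variable {R : Type u} [CommRing R]

lemma ta_of_flat (M : ModuleCat.{u} R) [Module.Flat R M] :
    DRing.HasTorAmplitudeIn R 0 0 (Dual.inD R M) := by
  refine ⟨_, fun i hi => HomologicalComplex.isZero_single_obj_X (ComplexShape.up ℤ) 0 M i (by omega),
    fun i => ?_, ⟨(PCoh.inDIso M).symm⟩⟩
  by_cases h : i = 0
  · subst h
    exact Module.Flat.of_linearEquiv
      (HomologicalComplex.singleObjXSelf (ComplexShape.up ℤ) 0 M).toLinearEquiv
  · haveI := ModuleCat.subsingleton_of_isZero
      (HomologicalComplex.isZero_single_obj_X (ComplexShape.up ℤ) 0 M i h)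
    infer_instance

lemma flat_of_ta (M : ModuleCat.{u} R) (h : DRing.HasTorAmplitudeIn R 0 0 (Dual.inD R M)) :
    Module.Flat R M := by
  obtain ⟨E, hE, hF, ⟨e⟩⟩ := h
  haveI : E.IsStrictlyGE 0 := (CochainComplex.isStrictlyGE_iff E 0).2 fun i hi => hE i (Or.inl hi)
  haveI : E.IsStrictlyLE 0 := (CochainComplex.isStrictlyLE_iff E 0).2 fun i hi => hE i (Or.inr hi)
  obtain ⟨Y, ⟨g⟩⟩ := CochainComplex.exists_iso_single E 0
  haveI := hF 0
  let eY : E.X 0 ≅ Y := (HomologicalComplex.eval (ModuleCat.{u} R) (ComplexShape.up ℤ) 0).mapIso g ≪≫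
      HomologicalComplex.singleObjXSelf (ComplexShape.up ℤ) 0 Y
  haveI : Module.Flat R Y := Module.Flat.of_linearEquiv eY.toLinearEquiv.symm
  exact Module.Flat.of_linearEquiv ((PCoh.HDinD Y).symm ≪≫ₗ
    PCoh.hEquiv 0 (PCoh.inDIso Y ≪≫ DerivedCategory.Q.mapIso g.symm ≪≫ e) ≪≫ₗ PCoh.HDinD M).symm

/-- Lowering the top of the interval. -/
theorem ta_top {a b b' : ℤ} {K : Dual.D R} (h : DRing.HasTorAmplitudeIn R a b K)
    (hv : ∀ i, b' < i → Subsingleton (Dual.HD R K i)) : DRing.HasTorAmplitudeIn R a b' K := by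
  obtain ⟨P, hP, ⟨e⟩⟩ := exists_projRep hv
  refine ta_of_tv ⟨P, b', hP, ⟨e⟩, fun M i hi => ?_⟩
  rcases hi with hi | hi
  · exact (tv_of_ta h).exactAt hP.above hP.flat e M (Or.inl hi)
  · exact (HomologicalComplex.exactAt_iff _ _).2
      (ShortComplex.exact_of_isZero_X₂ _ ((tensorRight M).map_isZero (hP.above i hi)))

lemma ta_of_isZero {a b : ℤ} {K : Dual.D R} (h : IsZero K) :
    DRing.HasTorAmplitudeIn R a b K := by
  have hz : ∀ i : ℤ, IsZero ((0 : DRing.Cx R).X i) := fun i =>
    (HomologicalComplex.eval _ _ i).map_isZero (isZero_zero _)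
  refine ⟨0, fun i _ => hz i, fun i => ?_, ⟨(DerivedCategory.Q.map_isZero (isZero_zero _)).iso h⟩⟩
  haveI := ModuleCat.subsingleton_of_isZero (hz i)
  infer_instance

theorem ta_inD_iff : ∀ (d : ℕ) (M : ModuleCat.{u} R),
    DRing.HasTorAmplitudeIn R (-(d : ℤ)) 0 (Dual.inD R M) ↔ DRing.HasTorDimLE R d M
  | 0, M => by
    refine ⟨fun h => ?_, fun h => ?_⟩
    · exact hasTorDimLE_zero_iff.2 (flat_of_ta M (by simpa using h))
    · haveI : Module.Flat R M := hasTorDimLE_zero_iff.1 h
      simpa using ta_of_flat M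
  | d + 1, M => by
    let f := Finsupp.linearCombination R (id : M → M)
    have hf : Function.Surjective f := Finsupp.linearCombination_surjective _ Function.surjective_id
    let S : ShortComplex (ModuleCat.{u} R) := ShortComplex.mk
      (X₁ := ModuleCat.of R (LinearMap.ker f)) (X₂ := ModuleCat.of R (M →₀ R)) (X₃ := M)
      (ModuleCat.ofHom (LinearMap.ker f).subtype) (ModuleCat.ofHom f)
      (ModuleCat.hom_ext (LinearMap.ext fun x => LinearMap.mem_ker.1 x.2))
    have hS : S.ShortExact :=
      { exact := (ShortComplex.ShortExact.moduleCat_exact_iff_function_exact S).2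
          (LinearMap.exact_subtype_ker_map f)
        mono_f := (ModuleCat.mono_iff_injective _).2 Subtype.val_injective
        epi_g := (ModuleCat.epi_iff_surjective _).2 hf }
    have hT := hS.singleTriangle_distinguished
    have hF := ta_of_flat (ModuleCat.of R (M →₀ R))
    rw [hasTorDimLE_succ_iff (A := R) f hf, ← ta_inD_iff d (ModuleCat.of R (LinearMap.ker f))]
    refine ⟨fun h => ?_, fun h => ?_⟩
    · refine ta_top (ta_obj₁ (a := -((d + 1 : ℕ) : ℤ)) (b := 0) _ hT
        (ta_mono (by omega) (by omega) hF) h) ?_ |> ta_mono (by omega) le_rfl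
      exact fun i hi => PCoh.subsingleton_HD_inD _ i (by omega)
    · exact ta_obj₃ _ hT (ta_mono (by omega) (by omega) h) (ta_mono (by omega) le_rfl hF)

lemma ta_of_single {a b n : ℤ} (Y : ModuleCat.{u} R)
    (h : DRing.HasTorAmplitudeIn R (a - n) (b - n) (Dual.inD R Y)) :
    DRing.HasTorAmplitudeIn R a b
      (DRing.toD ((HomologicalComplex.single (ModuleCat.{u} R) (ComplexShape.up ℤ) n).obj Y)) :=
  ta_of_iso (PCoh.singleIso Y n).symm (ta_shift (-n) (by omega) (by omega) h)

/-- A bounded complex whose terms have the shifted amplitudes. -/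
theorem ta_of_terms : ∀ (N : ℕ) (c : ℤ) {a b : ℤ} {K : DRing.Cx R},
    (∀ i, (i < c ∨ c + N ≤ i) → IsZero (K.X i)) →
    (∀ i, DRing.HasTorAmplitudeIn R (a - i) (b - i) (Dual.inD R (K.X i))) →
    DRing.HasTorAmplitudeIn R a b (DRing.toD K)
  | 0, c, a, b, K, hb, _ => ta_of_isZero (DerivedCategory.Q.map_isZero
      ((IsZero.iff_id_eq_zero K).2 (HomologicalComplex.hom_ext _ _ fun i =>
        (hb i (by omega)).eq_of_src _ _)))
  | N + 1, c, a, b, K, hb, h => by
    let p : ℤ := c + N
    have hT := DerivedCategory.triangleOfSES_distinguished (KFlat.Brutal.shortExact K p)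
    refine ta_obj₂ _ hT ?_ ?_
    · have hz : ∀ i, i ≠ p → IsZero ((KFlat.Brutal.geq K p).X i) := fun i hi => by
        by_cases hbi : p ≤ i
        · have := KFlat.Brutal.isIso_ι_f K p hbi
          exact (hb i (by omega)).of_iso (asIso ((KFlat.Brutal.ι K p).f i))
        · exact KFlat.Brutal.isZero_geq K _ (by omega)
      haveI : (KFlat.Brutal.geq K p).IsStrictlyGE p :=
        (CochainComplex.isStrictlyGE_iff _ p).2 fun q hq => hz q (by omega)
      haveI : (KFlat.Brutal.geq K p).IsStrictlyLE p :=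
        (CochainComplex.isStrictlyLE_iff _ p).2 fun q hq => hz q (by omega)
      obtain ⟨Y, ⟨e⟩⟩ := CochainComplex.exists_iso_single (KFlat.Brutal.geq K p) p
      have := KFlat.Brutal.isIso_ι_f K p (le_refl p)
      let eY : K.X p ≅ Y := (asIso ((KFlat.Brutal.ι K p).f p)).symm ≪≫
        (HomologicalComplex.eval _ _ p).mapIso e ≪≫
        HomologicalComplex.singleObjXSelf (ComplexShape.up ℤ) p Y
      exact ta_of_iso (DerivedCategory.Q.mapIso e).symm (ta_of_single Y
        (ta_of_iso ((DerivedCategory.singleFunctor (ModuleCat.{u} R) 0).mapIso eY) (h p)))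
    · refine ta_of_terms N c (fun i hi => ?_) fun i => ?_
      · by_cases hp : p ≤ i
        · exact KFlat.Brutal.isZero_cokernel K _ hp
        · have := KFlat.Brutal.isIso_cokernel_π K p (show i < p by omega)
          exact (hb i (by omega)).of_iso (asIso ((cokernel.π (KFlat.Brutal.ι K p)).f i)).symm
      · by_cases hi : i < p
        · have := KFlat.Brutal.isIso_cokernel_π K p hi
          exact ta_of_iso ((DerivedCategory.singleFunctor (ModuleCat.{u} R) 0).mapIso
            (asIso ((cokernel.π (KFlat.Brutal.ι K p)).f i))) (h i)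
        · exact ta_of_isZero ((DerivedCategory.singleFunctor (ModuleCat.{u} R) 0).map_isZero
            (KFlat.Brutal.isZero_cokernel K _ (not_lt.1 hi)))

/-- A bounded object whose cohomology modules have the shifted amplitudes. -/
theorem ta_of_homology : ∀ (N : ℕ) (c : ℤ) {a b : ℤ} {K : Dual.D R},
    (∀ i, (i < c ∨ c + N ≤ i) → Subsingleton (Dual.HD R K i)) →
    (∀ i, DRing.HasTorAmplitudeIn R (a - i) (b - i) (Dual.inD R (Dual.HD R K i))) →
    DRing.HasTorAmplitudeIn R a b K
  | 0, c, a, b, K, hb, _ => by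
    haveI : DerivedCategory.TStructure.t.IsLE K (c - 1) := (DerivedCategory.isLE_iff K (c - 1)).2
      fun i hi => ModuleCat.isZero_of_iff_subsingleton.2 (hb i (by omega))
    haveI : DerivedCategory.TStructure.t.IsGE K c := (DerivedCategory.isGE_iff K c).2
      fun i hi => ModuleCat.isZero_of_iff_subsingleton.2 (hb i (by omega))
    exact ta_of_isZero (DerivedCategory.TStructure.t.isZero K (c - 1) c (by omega))
  | N + 1, c, a, b, K, hb, h => by
    let p : ℤ := c + N
    let T := (DerivedCategory.TStructure.t.triangleLTGE p).obj K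
    have hT : T ∈ distTriang _ := DerivedCategory.TStructure.t.triangleLTGE_distinguished p K
    haveI : DerivedCategory.IsGE T.obj₃ p :=
      inferInstanceAs (DerivedCategory.TStructure.t.IsGE _ p)
    haveI : DerivedCategory.IsLE T.obj₁ (p - 1) :=
      DerivedCategory.TStructure.t.isLE_truncLT_obj K p (p - 1) (by omega)
    have h₁ : ∀ i, p ≤ i → Subsingleton (Dual.HD R T.obj₁ i) := fun i hi =>
      ModuleCat.subsingleton_of_isZero (DerivedCategory.isZero_of_isLE T.obj₁ (p - 1) i (by omega))
    have hlow : ∀ i, i < p → Subsingleton (Dual.HD R T.obj₃ i) := fun i hi =>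
      ModuleCat.subsingleton_of_isZero (DerivedCategory.isZero_of_isGE T.obj₃ p i hi)
    haveI : DerivedCategory.IsLE T.obj₃ p := (DerivedCategory.isLE_iff _ p).2 fun i hi =>
      ModuleCat.isZero_of_iff_subsingleton.2 (PCoh.subsingleton₃ T hT i (i + 1) rfl
        (h₁ _ (by omega)) (hb i (Or.inr (by omega))))
    obtain ⟨Y, ⟨e⟩⟩ := DerivedCategory.exists_iso_singleFunctor_obj_of_isGE_of_isLE T.obj₃ p
    let e' : T.obj₃ ≅ DRing.toD ((HomologicalComplex.single (ModuleCat.{u} R) (ComplexShape.up ℤ) p).obj Y) :=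
      e ≪≫ (DerivedCategory.singleFunctorIsoCompQ (ModuleCat.{u} R) p).app Y
    let eY : Dual.HD R K p ≃ₗ[R] Y :=
      (LinearEquiv.ofBijective (PCoh.hm p T.mor₂)
        ⟨PCoh.injective₂_of_subsingleton T hT p (h₁ p le_rfl),
          PCoh.surjective₂_of_subsingleton T hT p (p + 1) rfl (h₁ _ (by omega))⟩) ≪≫ₗ
        PCoh.hEquiv p e' ≪≫ₗ
        ((DerivedCategory.homologyFunctorFactors (ModuleCat.{u} R) p).app _ ≪≫
          HomologicalComplex.singleObjHomologySelfIso _ _ _).toLinearEquiv
    refine ta_obj₂ T hT (ta_of_homology N c (fun i hi => ?_) fun i => ?_) ?_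
    · by_cases hp : p ≤ i
      · exact h₁ i hp
      · haveI : Subsingleton (Dual.HD R T.obj₂ i) := hb i (by omega)
        exact (PCoh.injective₁_of_subsingleton T hT (i - 1) i (by omega)
          (hlow _ (by omega))).subsingleton
    · by_cases hp : p ≤ i
      · exact ta_of_isZero ((DerivedCategory.singleFunctor (ModuleCat.{u} R) 0).map_isZero
          (ModuleCat.isZero_of_iff_subsingleton.2 (h₁ i hp)))
      · refine ta_of_iso ((DerivedCategory.singleFunctor (ModuleCat.{u} R) 0).mapIso
          (LinearEquiv.ofBijective (PCoh.hm i T.mor₁) ⟨?_, ?_⟩).toModuleIso.symm) (h i)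
        · exact PCoh.injective₁_of_subsingleton T hT (i - 1) i (by omega) (hlow _ (by omega))
        · exact PCoh.surjective₁_of_subsingleton T hT i (hlow i (by omega))
    · exact ta_of_iso e'.symm (ta_of_single Y
        (ta_of_iso ((DerivedCategory.singleFunctor (ModuleCat.{u} R) 0).mapIso eY.toModuleIso) (h p)))

end Groth.Agent.H4DR.TorAmp
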