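import Groth.Agent.H4DR.TorAmp.PerfectChange
import Groth.Agent.H25DTen.Exists
import Groth.Agent.H16Derived.LeftDer
import Groth.Prelude.Def_DRing4
import Mathlib.Algebra.Category.ModuleCat.Products
import Mathlib.Algebra.DirectSum.Module
import Mathlib.LinearAlgebra.DirectSum.Basis
import Mathlib.RingTheory.TensorProduct.Free

/-!
# `- ⊗^L E` for a complex `E`
-/

set_option autoImplicit false
set_option linter.style.haveILetI false

universe u

open CategoryTheory CategoryTheory.Limits MonoidalCategory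
open Groth.Agent.H16Derived

attribute [local instance] HasDerivedCategory.standard

namespace Groth.Agent.H4DR.TorAmp

open Groth.Agent.H4DR.KFlatMod (bi)

variable {A : Type u} [CommRing A]

/-- `- ⊗^L E` is computed by K-flat complexes. -/
theorem isIso_ltensorCx_counit (E : DRing.Cx A) [DRing.HasLTensorCx A E] (P : DRing.Cx A)
    (hP : KFlat.IsKFlat (bi A) P) :
    IsIso (((DRing.tensorCxQ A E).totalLeftDerivedCounit DerivedCategory.Q
      (HomologicalComplex.quasiIso (ModuleCat.{u} A) (ComplexShape.up ℤ))).app P) := by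
  refine LeftDer.isIso_counit (F := DRing.tensorCxQ A E)
    (HomologicalComplex.quasiIso (ModuleCat.{u} A) (ComplexShape.up ℤ)) DerivedCategory.Q
    (R := H25DTen.res A) (ψ := H25DTen.resψ A) (fun X => H25DTen.quasiIso_resψ X)
    (fun X Y f hf => ?_) (fun X => ?_) _ _ P ?_
  · haveI : QuasiIso f := hf
    haveI := H25DTen.quasiIso_res_map f
    exact H25DTen.isIso_Q_map _ (H25DTen.quasiIso_whiskerRight' ((H25DTen.res A).map f)
      (H25DTen.isKFlat_res X) (H25DTen.isKFlat_res Y) E)
  · exact H25DTen.isIso_Q_map _ (@H25DTen.quasiIso_whiskerRight' A _ _ _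
      ((H25DTen.resψ A).app ((H25DTen.res A).obj X)) (H25DTen.quasiIso_resψ ((H25DTen.res A).obj X))
      (H25DTen.isKFlat_res _) (H25DTen.isKFlat_res X) E)
  · haveI := H25DTen.quasiIso_resψ P
    exact H25DTen.isIso_Q_map _ (H25DTen.quasiIso_whiskerRight' ((H25DTen.resψ A).app P)
      (H25DTen.isKFlat_res P) hP E)

/-- The value of `- ⊗^L E` on a K-flat complex. -/
noncomputable def ltensorCxObj (E : DRing.Cx A) [DRing.HasLTensorCx A E] (P : DRing.Cx A)
    (hP : KFlat.IsKFlat (bi A) P) :
    (DRing.LTensorCx A E).obj (DRing.toD P) ≅ DRing.toD (P ⊗ E) :=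
  @asIso _ _ _ _ _ (isIso_ltensorCx_counit E P hP)

/-- `K ⊗^L L` on representatives. -/
theorem ltensorCx_congr (L : DRing.Cx A) [DRing.HasLTensorCx A L] {K : Dual.D A} {P Q : DRing.Cx A}
    {c c' : ℤ} (hb : DRing.VanishesAbove P c) (hP : DRing.TermwiseFlat P) (e : DRing.toD P ≅ K)
    (hQ : IsProjRep Q c') (e' : DRing.toD Q ≅ DRing.toD L) :
    Nonempty (DRing.toD (P ⊗ Q) ≅ (DRing.LTensorCx A L).obj K) := by
  obtain ⟨g, hg, -⟩ := exists_qis hQ e'
  have := H25DTen.quasiIso_whiskerLeft P (isKFlat_of_flat hb hP) g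
  exact ⟨@asIso _ _ _ _ _ (H25DTen.isIso_Q_map (P ◁ g) this) ≪≫
    (ltensorCxObj L P (isKFlat_of_flat hb hP)).symm ≪≫ (DRing.LTensorCx A L).mapIso e⟩

lemma finite_directSum {ι : Type} [DecidableEq ι] (M : ι → Type u) [∀ i, AddCommGroup (M i)]
    [∀ i, Module A (M i)] [∀ i, Module.Finite A (M i)] (s : Finset ι)
    (h : ∀ i, i ∉ s → Subsingleton (M i)) : Module.Finite A (DirectSum ι M) := by
  refine Module.Finite.of_surjective
    (∑ i : s, (DirectSum.lof A ι M i.1).comp (LinearMap.proj (R := A) (φ := fun i : s => M i.1) i))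
    fun x => ⟨fun i => x i.1, ?_⟩
  rw [LinearMap.sum_apply]
  refine DirectSum.ext_component A fun j => ?_
  rw [map_sum]
  by_cases hj : j ∈ s
  · rw [Finset.sum_eq_single ⟨j, hj⟩]
    · simp [DirectSum.apply_eq_component]
      rfl
    · intro b _ hb
      have : (b : ι) ≠ j := fun h' => hb (Subtype.ext h')
      simp [DirectSum.component.of, this]
    · simp
  · haveI := h j hj
    exact Subsingleton.elim _ _

lemma vanishes_tensor {P Q : DRing.Cx A} (n : ℤ)
    (h : ∀ i j : ℤ, i + j = n → IsZero (P.X i) ∨ IsZero (Q.X j)) : IsZero ((P ⊗ Q).X n) := by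
  rw [IsZero.iff_id_eq_zero]
  refine HomologicalComplex.mapBifunctor.hom_ext fun i j hij => ?_
  refine IsZero.eq_of_src ?_ _ _
  rcases h i j hij with h | h
  · exact (tensorRight (Q.X j)).map_isZero h
  · exact (tensorLeft (P.X i)).map_isZero h

/-- The terms of a tensor product of bounded above complexes. -/
theorem tensor_terms {P Q : DRing.Cx A} {c c' : ℤ} (hP : DRing.VanishesAbove P c)
    (hQ : DRing.VanishesAbove Q c') (n : ℤ)
    (hPf : ∀ i, Module.Finite A (P.X i)) (hQf : ∀ i, Module.Finite A (Q.X i)) :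
    Module.Finite A ((P ⊗ Q).X n) ∧
      ((∀ i, Module.Free A (P.X i)) → (∀ i, Module.Free A (Q.X i)) →
        Module.Free A ((P ⊗ Q).X n)) ∧
      ((∀ i, Module.Projective A (P.X i)) → (∀ i, Module.Projective A (Q.X i)) →
        Module.Projective A ((P ⊗ Q).X n)) := by
  classical
  let ι : Type := ((fun p : ℤ × ℤ => p.1 + p.2) ⁻¹' {n} : Set (ℤ × ℤ))
  let M : ι → ModuleCat.{u} A := fun x => P.X x.1.1 ⊗ Q.X x.1.2
  let e : (P ⊗ Q).X n ≅ ModuleCat.of A (DirectSum ι fun x => M x) := ModuleCat.coprodIsoDirectSum M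
  haveI : ∀ x, Module.Finite A (M x) := fun x =>
    haveI := hPf x.1.1
    haveI := hQf x.1.2
    inferInstanceAs (Module.Finite A (TensorProduct A (P.X x.1.1) (Q.X x.1.2)))
  refine ⟨?_, fun hP' hQ' => ?_, fun hP' hQ' => ?_⟩
  · haveI := finite_directSum (A := A) (fun x => M x)
      ((Finset.Icc (n - c') c).attach.image fun i : {z : ℤ // z ∈ Finset.Icc (n - c') c} =>
        (⟨(i.1, n - i.1), add_sub_cancel i.1 n⟩ : ι)) fun x hx => by
        have hx2 : x.1.1 + x.1.2 = n := x.2
        refine ModuleCat.subsingleton_of_isZero (M := M x) ?_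
        by_cases h1 : c < x.1.1
        · exact (tensorRight (Q.X x.1.2)).map_isZero (hP _ h1)
        · by_cases h2 : c' < x.1.2
          · exact (tensorLeft (P.X x.1.1)).map_isZero (hQ _ h2)
          · refine (hx (Finset.mem_image.2 ⟨⟨x.1.1, Finset.mem_Icc.2 ⟨by omega, by omega⟩⟩,
              Finset.mem_attach _ _, Subtype.ext (Prod.ext rfl ?_)⟩)).elim
            show n - x.1.1 = x.1.2
            omega
    exact Module.Finite.equiv e.toLinearEquiv.symm
  · haveI : ∀ x, Module.Free A (M x) := fun x =>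
      haveI := hP' x.1.1
      haveI := hQ' x.1.2
      inferInstanceAs (Module.Free A (TensorProduct A (P.X x.1.1) (Q.X x.1.2)))
    haveI : Module.Free A (ModuleCat.of A (DirectSum ι fun x => M x)) :=
      inferInstanceAs (Module.Free A (DirectSum ι fun x => M x))
    exact Module.Free.of_equiv e.toLinearEquiv.symm
  · haveI : ∀ x, Module.Projective A (M x) := fun x =>
      haveI := hP' x.1.1
      haveI := hQ' x.1.2
      inferInstanceAs (Module.Projective A (TensorProduct A (P.X x.1.1) (Q.X x.1.2)))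
    haveI : Module.Projective A (ModuleCat.of A (DirectSum ι fun x => M x)) :=
      inferInstanceAs (Module.Projective A (DirectSum ι fun x => M x))
    exact Module.Projective.of_equiv e.toLinearEquiv.symm

end Groth.Agent.H4DR.TorAmp
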