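import Groth.Agent.H4DR.TorAmp.Nilpotent
import Groth.Agent.H4DR.TorAmp.Residue

/-!
# Tensor products with modules over a quotient
-/

set_option autoImplicit false
set_option linter.style.haveILetI false

universe u

open CategoryTheory CategoryTheory.Limits MonoidalCategory
open Groth.Agent.H16Derived

attribute [local instance] HasDerivedCategory.standard

namespace Groth.Agent.H4DR.TorAmp

open Groth.Agent.H4DR.KFlatMod (bi)

variable {A B : Type u} [CommRing A] [CommRing B] (φ : A →+* B)

/-- `B ⊗ P` is `P ⊗ B` after restriction. -/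
lemma exactAt_ext_iff_tens (P : DRing.Cx A) (i : ℤ) :
    (((ModuleCat.extendScalars.{u, u, u} φ).mapHomologicalComplex (ComplexShape.up ℤ)).obj P).ExactAt i ↔
      ((tens ((ModuleCat.restrictScalars.{u} φ).obj (ModuleCat.of B B))).obj P).ExactAt i := by
  rw [← exactAt_restrict_iff φ]
  let e := (NatIso.mapHomologicalComplex (H25DTen.extResIso φ ≪≫ BraidedCategory.tensorLeftIsoTensorRight
    ((ModuleCat.restrictScalars.{u} φ).obj (ModuleCat.of B B))) (ComplexShape.up ℤ)).app P
  exact ⟨fun h => h.of_iso e, fun h => h.of_iso e.symm⟩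

/-- Exactness of `P ⊗ N` for a `B`-module `N`, in terms of `B ⊗ P`. -/
lemma exactAt_tens_restrict_iff (P : DRing.Cx A) (N : ModuleCat.{u} B) (i : ℤ) :
    ((tens N).obj (((ModuleCat.extendScalars.{u, u, u} φ).mapHomologicalComplex
      (ComplexShape.up ℤ)).obj P)).ExactAt i ↔
      ((tens ((ModuleCat.restrictScalars.{u} φ).obj N)).obj P).ExactAt i := by
  rw [← exactAt_restrict_iff φ]
  let e := (NatIso.mapHomologicalComplex (extTensIso φ N) (ComplexShape.up ℤ)).app P
  exact ⟨fun h => h.of_iso e, fun h => h.of_iso e.symm⟩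

/-- Over a field, tensoring preserves exactness. -/
lemma exactAt_tens_of_field {k : Type u} [Field k] (Q : DRing.Cx k) (N : ModuleCat.{u} k) {i : ℤ}
    (h : Q.ExactAt i) : ((tens N).obj Q).ExactAt i := by
  haveI : Module.Flat k N :=
    haveI := Module.Free.of_divisionRing k N
    inferInstance
  rw [HomologicalComplex.exactAt_iff' _ (i - 1) i (i + 1) (by simp) (by simp),
    ShortComplex.ShortExact.moduleCat_exact_iff_function_exact] at h ⊢
  exact Module.Flat.rTensor_exact N h

end Groth.Agent.H4DR.TorAmp
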