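import Groth.Agent.H4DR.TorAmp.Perfect
import Groth.Agent.H4DR.TorAmp.Descent
import Groth.Agent.H4LC.RegularPDBound
import Groth.Agent.H8Props.PseudoCoh.Regular
import Mathlib.RingTheory.Localization.Finiteness

/-!
# Perfect objects and change of rings
-/

set_option autoImplicit false
set_option linter.style.haveILetI false

universe u

open CategoryTheory CategoryTheory.Limits MonoidalCategory Pretriangulated TensorProduct
open Groth.Agent.H16Derived

attribute [local instance] HasDerivedCategory.standard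

namespace Groth.Agent.H4DR.TorAmp

variable {A B : Type u} [CommRing A] [CommRing B]

lemma finiteProjective_extend (φ : A →+* B) {M : ModuleCat.{u} A}
    (h : Module.Finite A M ∧ Module.Projective A M) :
    Module.Finite B ((ModuleCat.extendScalars.{u, u, u} φ).obj M) ∧
      Module.Projective B ((ModuleCat.extendScalars.{u, u, u} φ).obj M) := by
  letI := φ.toAlgebra
  haveI := h.1
  haveI := h.2
  exact ⟨inferInstanceAs (Module.Finite B (B ⊗[A] M)), inferInstanceAs (Module.Projective B (B ⊗[A] M))⟩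

theorem isPerfect_lbase (φ : A →+* B) [DRing.HasLBaseChange φ] {K : Dual.D A}
    (h : DRing.IsPerfect A K) : DRing.IsPerfect B ((DRing.LBaseChange φ).obj K) := by
  obtain ⟨E, a, b, hE, hF, ⟨e⟩⟩ := h
  exact ⟨_, a, b, fun i hi => (ModuleCat.extendScalars.{u, u, u} φ).map_isZero (hE i hi),
    fun i => finiteProjective_extend φ (hF i),
    ⟨(lbaseObj φ E (isKFlat_of_flat (fun j hj => hE j (Or.inr hj))
      fun i => haveI := (hF i).2; inferInstance)).symm ≪≫ (DRing.LBaseChange φ).mapIso e⟩⟩

theorem isPerfect_inD_extend (φ : A →+* B) (hφ : φ.Flat) (M : ModuleCat.{u} A)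
    (h : DRing.IsPerfect A (Dual.inD A M)) :
    DRing.IsPerfect B (Dual.inD B ((ModuleCat.extendScalars.{u, u, u} φ).obj M)) := by
  haveI : PreservesFiniteLimits (ModuleCat.extendScalars.{u, u, u} φ) :=
    ModuleCat.preservesFiniteLimits_extendScalars_of_flat hφ
  obtain ⟨E, a, b, hE, hF, ⟨e⟩⟩ := h
  refine isPerfect_of_iso (((ModuleCat.extendScalars.{u, u, u} φ).mapDerivedCategorySingleFunctor 0).app M)
    ⟨_, a, b, fun i hi => (ModuleCat.extendScalars.{u, u, u} φ).map_isZero (hE i hi),
    fun i => finiteProjective_extend φ (hF i),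
    ⟨(ModuleCat.extendScalars.{u, u, u} φ).mapDerivedCategoryFactors.symm.app E ≪≫
      (ModuleCat.extendScalars.{u, u, u} φ).mapDerivedCategory.mapIso e⟩⟩

theorem isPerfect_restrict [Algebra A B] (hB : DRing.IsPerfectModule A B) {K : Dual.D B}
    (hK : DRing.IsPerfect B K) :
    DRing.IsPerfect A ((DRing.restrictD (algebraMap A B)).obj K) := by
  obtain ⟨hB', a, b, hT⟩ := isPerfect_iff.1 hB
  obtain ⟨hK', a', b', hT'⟩ := isPerfect_iff.1 hK
  let G := ModuleCat.restrictScalars.{u} (algebraMap A B)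
  have hfree : ∀ (n : ℕ) (j : ℤ),
      DRing.IsPseudoCoherentModule A j (G.obj (ModuleCat.of B (Fin n → B))) := by
    intro n j
    refine PCoh.pc_of_pc' ?_ j
    refine PCoh.pc'_iff.2 fun m' => ?_
    have h1 := H8Props.PseudoCoh.isPseudoCoherentModule'_iff.1 hB'
    have h2 : H8Props.PseudoCoh.FPInf A (Fin n → B) := fun k =>
      H8Props.PseudoCoh.fpk_pi_algebra (h1 k) n
    let e : (Fin n → B) ≃ₗ[A] G.obj (ModuleCat.of B (Fin n → B)) :=
      { AddEquiv.refl _ with map_smul' := fun a x => (algebraMap_smul B a x).symm }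
    exact PCoh.pc_of_iso ((DerivedCategory.singleFunctor (ModuleCat.{u} A) 0).mapIso e.toModuleIso)
      (PCoh.pc_of_pc' (H8Props.PseudoCoh.isPseudoCoherentModule'_iff.2 h2) m')
  refine isPerfect_iff.2 ⟨PCoh.pc'_of_forall fun m => PCoh.pc_map G hfree (PCoh.pc_of_pc' hK' m),
    a' - (-a).toNat, b', ta_restrict (ta_mono (by omega) le_rfl (ta_top hT fun i hi => ?_)) hT'⟩
  exact PCoh.subsingleton_HD_inD (R := A) (ModuleCat.of A B) i (by omega)

section Descent

variable {ι : Type} [Fintype ι] {R : ι → Type u} [∀ k, CommRing (R k)]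
  (F : ∀ k, ModuleCat.{u} A ⥤ ModuleCat.{u} (R k)) [∀ k, (F k).Additive]
  [∀ k, PreservesFiniteLimits (F k)] [∀ k, PreservesFiniteColimits (F k)]

/-- Descent of pseudo-coherence along a jointly faithful family of exact functors. -/
theorem pc_of_maps
    (hfree : ∀ k (n : ℕ) (j : ℤ),
      DRing.IsPseudoCoherentModule (R k) j ((F k).obj (ModuleCat.of A (Fin n → A))))
    (hfin : ∀ M : ModuleCat.{u} A, (∀ k, Module.Finite (R k) ((F k).obj M)) → Module.Finite A M)
    (hzero : ∀ M : ModuleCat.{u} A, (∀ k, Subsingleton ((F k).obj M)) → Subsingleton M) :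
    ∀ (N : ℕ) {m : ℤ} {K : Dual.D A},
      (∀ k i, m + N ≤ i → Subsingleton (Dual.HD (R k) ((F k).mapDerivedCategory.obj K) i)) →
      (∀ k, DRing.IsPseudoCoherent (R k) m ((F k).mapDerivedCategory.obj K)) →
      DRing.IsPseudoCoherent A m K
  | 0, m, K, hb, _ => PCoh.pc_of_vanish fun i hi => hzero _ fun k => (haveI := hb k i (by omega)
      (PCoh.hMap (F k) i K).toLinearEquiv.symm.injective.subsingleton)
  | N + 1, m, K, hb, hK => by
    have hv : ∀ i, m + N < i → Subsingleton (Dual.HD A K i) := fun i hi => hzero _ fun k => (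
      haveI := hb k i (by omega)
      (PCoh.hMap (F k) i K).toLinearEquiv.symm.injective.subsingleton)
    haveI : Module.Finite A (Dual.HD A K (m + N)) := hfin _ fun k =>
      haveI := PCoh.finite_top (hK k) (b := m + N) (by omega) fun i hi => hb k i (by omega)
      Module.Finite.equiv (PCoh.hMap (F k) (m + N) K).toLinearEquiv
    obtain ⟨n, C, f, g, h, hT, -, hC, hpc⟩ := PCoh.exists_attach K (m + N) hv
    refine (hpc m).2 (pc_of_maps hfree hfin hzero N
      (fun k i hi => PCoh.subsingleton_map (F k) (hC i hi)) fun k => ?_)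
    exact PCoh.pc_obj₃ ((F k).mapDerivedCategory.mapTriangle.obj (Triangle.mk f g h))
      ((F k).mapDerivedCategory.map_distinguished _ hT)
      (PCoh.pc_map (F k) (hfree k) (PCoh.pc_toD_of_isFFCx (PCoh.isFFCx_freeAt n _) _)) (hK k)

end Descent

/-- Perfectness descends along a jointly conservative finite family of flat ring maps. -/
theorem isPerfect_descent {ι : Type} [Fintype ι] (R : ι → Type u) [∀ k, CommRing (R k)]
    (φ : ∀ k, A →+* R k) (hflat : ∀ k, (φ k).Flat)
    (hcons : ∀ X : ModuleCat.{u} A,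
      (∀ k, IsZero ((ModuleCat.extendScalars.{u, u, u} (φ k)).obj X)) → IsZero X)
    (hfin : ∀ X : ModuleCat.{u} A,
      (∀ k, Module.Finite (R k) ((ModuleCat.extendScalars.{u, u, u} (φ k)).obj X)) → Module.Finite A X)
    (K : DRing.Cx A)
    (hK : ∀ k, DRing.IsPerfect (R k) (DRing.toD
      (((ModuleCat.extendScalars.{u, u, u} (φ k)).mapHomologicalComplex (ComplexShape.up ℤ)).obj K))) :
    DRing.IsPerfect A (DRing.toD K) := by
  let F := fun k => ModuleCat.extendScalars.{u, u, u} (φ k)
  haveI : ∀ k, PreservesFiniteLimits (F k) := fun k =>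
    ModuleCat.preservesFiniteLimits_extendScalars_of_flat (hflat k)
  have hK' := fun k => isPerfect_iff.1 (hK k)
  obtain ⟨a, b, hab⟩ : ∃ a b : ℤ, ∀ k, DRing.HasTorAmplitudeIn (R k) a b (DRing.toD
      (((F k).mapHomologicalComplex (ComplexShape.up ℤ)).obj K)) := by
    have : ∀ k, ∃ a b : ℤ, DRing.HasTorAmplitudeIn (R k) a b (DRing.toD
        (((F k).mapHomologicalComplex (ComplexShape.up ℤ)).obj K)) := fun k => (hK' k).2
    choose a b hab using this
    refine ⟨-∑ k, |a k|, ∑ k, |b k|, fun k => ta_mono ?_ ?_ (hab k)⟩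
    · have := Finset.single_le_sum (f := fun j => |a j|) (fun j _ => abs_nonneg _) (Finset.mem_univ k)
      have h2 := neg_abs_le (a k)
      omega
    · have := Finset.single_le_sum (f := fun j => |b j|) (fun j _ => abs_nonneg _) (Finset.mem_univ k)
      have h2 := le_abs_self (b k)
      omega
  refine isPerfect_iff.2 ⟨PCoh.pc'_of_forall fun m => ?_, a, b, ta_descent R φ hflat hcons K a b hab⟩
  refine pc_of_maps F (fun k => PCoh.hfree_extend (φ k)) hfin (fun M hM =>
    ModuleCat.subsingleton_of_isZero (hcons M fun k => @ModuleCat.isZero_of_subsingleton _ _ ((F k).obj M) (hM k)))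
    (b + 1 - m).toNat (fun k i hi => ?_) fun k => ?_
  · exact bound_of_ta (ta_of_iso ((F k).mapDerivedCategoryFactors.app K).symm (hab k)) i
      (Or.inr (by omega))
  · exact PCoh.pc_of_iso ((F k).mapDerivedCategoryFactors.app K).symm (PCoh.pc_of_pc' (hK' k).1 m)

/-- Finite modules over a regular ring are perfect. -/
theorem isPerfectModule_iff_finite [IsNoetherianRing A]
    (hreg : ∀ p : PrimeSpectrum A, IsRegularLocalRing (Localization.AtPrime p.asIdeal))
    (M : Type u) [AddCommGroup M] [Module A M] :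
    DRing.IsPerfectModule A M ↔ Module.Finite A M := by
  refine ⟨fun h => ((H8Props.PseudoCoh.isPerfectModule_iff.1 h).1 0).finite, fun h => ?_⟩
  haveI : IsRegularRing A := isRegularRing_iff.2 fun p hp => hreg ⟨p, hp⟩
  obtain ⟨d, hd⟩ := H4LC.exists_projectiveDimension_bound (A := A) M
  exact H8Props.PseudoCoh.isPerfectModule_iff.2 ⟨fun k => H8Props.PseudoCoh.fpk_of_noetherian k M,
    d, H8Props.PseudoCoh.hasTorDimLE_of_hasProjectiveDimensionLT d M hd⟩

end Groth.Agent.H4DR.TorAmp
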