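import Groth.Agent.H4DR.TorAmp.Pair
import Groth.Agent.H4DR.TorAmp.Modules
import Groth.Agent.H4DR.TorAmp.Quotient
import Mathlib.Algebra.Module.LocalizedModule.Basic

/-!
# Flatness from a localization and a quotient
-/

set_option autoImplicit false
set_option linter.style.haveILetI false

universe u

open CategoryTheory CategoryTheory.Limits MonoidalCategory TensorProduct
open Groth.Agent.H16Derived

attribute [local instance] HasDerivedCategory.standard

namespace Groth.Agent.H4DR.TorAmp.AwayQuot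

open Groth.Agent.H4DR.KFlatMod (bi)

variable {R : Type u} [CommRing R]

/-- Exactness of `P ⊗ N₁` from the middle and the quotient in one degree less. -/
theorem exactAt_sub {P : DRing.Cx R} (hfl : DRing.TermwiseFlat P) {N₁ N₂ N₃ : Type u} [AddCommGroup N₁]
    [Module R N₁] [AddCommGroup N₂] [Module R N₂] [AddCommGroup N₃] [Module R N₃] (a : N₁ →ₗ[R] N₂) (b : N₂ →ₗ[R] N₃)
    (hab : Function.Exact a b) (ha : Function.Injective a) (hb : Function.Surjective b) (i : ℤ)
    (h₂ : ((tens (ModuleCat.of R N₂)).obj P).ExactAt i)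
    (h₃ : ((tens (ModuleCat.of R N₃)).obj P).ExactAt (i - 1)) :
    ((tens (ModuleCat.of R N₁)).obj P).ExactAt i := by
  let f : ModuleCat.of R N₁ ⟶ ModuleCat.of R N₂ := ModuleCat.ofHom a
  let g : ModuleCat.of R N₂ ⟶ ModuleCat.of R N₃ := ModuleCat.ofHom b
  let τ : ∀ {X Y : ModuleCat.{u} R}, (X ⟶ Y) → ((tens X).obj P ⟶ (tens Y).obj P) := fun k =>
    (NatTrans.mapHomologicalComplex ((curriedTensor (ModuleCat.{u} R)).flip.map k) (ComplexShape.up ℤ)).app P
  have hfg : τ f ≫ τ g = 0 := HomologicalComplex.hom_ext _ _ fun j => by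
    show P.X j ◁ f ≫ P.X j ◁ g = 0
    rw [← MonoidalCategory.whiskerLeft_comp, show f ≫ g = 0 from ModuleCat.hom_ext
      hab.linearMap_comp_eq_zero, MonoidalPreadditive.whiskerLeft_zero]
  let S : ShortComplex (DRing.Cx R) := ShortComplex.mk (τ f) (τ g) hfg
  have hS : S.ShortExact := HomologicalComplex.shortExact_of_degreewise_shortExact S fun j => by
    haveI := hfl j
    exact ModuleCat.shortComplex_shortExact _ (lTensor_exact (P.X j) hab hb)
      (Module.Flat.lTensor_preserves_injective_linearMap _ ha) (LinearMap.lTensor_surjective _ hb)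
  rw [HomologicalComplex.exactAt_iff_isZero_homology]
  exact (hS.homology_exact₁ (i - 1) i (by simp)).isZero_of_both_isZero h₃.isZero_homology h₂.isZero_homology

/-- The case of a torsion module. -/
theorem exactAt_of_torsion (f : R) {P : DRing.Cx R} (hfl : DRing.TermwiseFlat P) (i : ℤ)
    (h : ∀ M : ModuleCat.{u} R, Ideal.span ({f} : Set R) • (⊤ : Submodule R M) = ⊥ → ((tens M).obj P).ExactAt i)
    (N : Type u) [AddCommGroup N] [Module R N] (hN : ∀ x : N, ∃ n : ℕ, f ^ n • x = 0) :
    ((tens (ModuleCat.of R N)).obj P).ExactAt i := by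
  let T : ℕ → Submodule R N := fun n => LinearMap.ker (LinearMap.lsmul R N (f ^ n))
  have hT : ∀ n, ((tens (ModuleCat.of R (T n))).obj P).ExactAt i := fun n =>
    exactAt_tens_of_pow hfl (Ideal.span {f}) i h n (ModuleCat.of R (T n)) (by
      rw [Ideal.span_singleton_pow, eq_bot_iff]
      refine Submodule.smul_le.2 fun r hr x _ => ?_
      obtain ⟨s, rfl⟩ := Ideal.mem_span_singleton'.1 hr
      refine (Submodule.mem_bot R).2 (Subtype.ext ?_)
      show (s * f ^ n) • (x.1 : N) = 0
      rw [mul_smul, show f ^ n • (x.1 : N) = 0 from x.2, smul_zero])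
  rw [HomologicalComplex.exactAt_iff' _ (i - 1) i (i + 1) (by simp) (by simp),
    ShortComplex.ShortExact.moduleCat_exact_iff_function_exact]
  intro x
  refine ⟨fun hx => ?_, fun ⟨y, hy⟩ => hy ▸
    congr($(((tens (ModuleCat.of R N)).obj P).d_comp_d (i - 1) i (i + 1)).hom y)⟩
  have hex : ∀ z : (P.X i : Type u) ⊗[R] N, ∃ n, z ∈ LinearMap.range ((T n).subtype.lTensor (P.X i)) := by
    have hmono : ∀ {m n : ℕ}, m ≤ n → T m ≤ T n := fun {m n} hmn x hx => by
      obtain ⟨k, rfl⟩ := Nat.exists_eq_add_of_le hmn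
      show f ^ (m + k) • x = 0
      rw [pow_add, mul_comm, mul_smul, show f ^ m • x = 0 from hx, smul_zero]
    have hr : ∀ {m n : ℕ}, m ≤ n →
        LinearMap.range ((T m).subtype.lTensor (P.X i)) ≤ LinearMap.range ((T n).subtype.lTensor (P.X i)) :=
      fun hmn => by
        rw [← Submodule.subtype_comp_inclusion _ _ (hmono hmn), LinearMap.lTensor_comp]
        exact LinearMap.range_comp_le_range _ _
    intro z
    induction z using TensorProduct.induction_on with
    | zero => exact ⟨0, zero_mem _⟩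
    | tmul p y =>
      obtain ⟨n, hn⟩ := hN y
      exact ⟨n, ⟨p ⊗ₜ (⟨y, hn⟩ : T n), rfl⟩⟩
    | add a b ha hb =>
      obtain ⟨m, hm⟩ := ha
      obtain ⟨n, hn⟩ := hb
      exact ⟨max m n, add_mem (hr (le_max_left m n) hm) (hr (le_max_right m n) hn)⟩
  obtain ⟨n, z, hz⟩ := hex x
  have hTn := hT n
  rw [HomologicalComplex.exactAt_iff' _ (i - 1) i (i + 1) (by simp) (by simp),
    ShortComplex.ShortExact.moduleCat_exact_iff_function_exact] at hTn
  let d₀ := (P.d (i - 1) i).hom
  let d₁ := (P.d i (i + 1)).hom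
  have h1 : d₁.rTensor (T n) z = 0 := by
    haveI := hfl (i + 1)
    refine Module.Flat.lTensor_preserves_injective_linearMap (M := P.X (i + 1)) _ (T n).injective_subtype ?_
    rw [map_zero, ← LinearMap.comp_apply, LinearMap.lTensor_comp_rTensor, ← LinearMap.rTensor_comp_lTensor,
      LinearMap.comp_apply, hz]
    exact hx
  obtain ⟨(w : (P.X (i - 1) : Type u) ⊗[R] T n), (hw : d₀.rTensor (T n) w = z)⟩ := (hTn z).1 h1
  refine ⟨(T n).subtype.lTensor (P.X (i - 1)) w, ?_⟩
  show d₀.rTensor N _ = x
  rw [← hz, ← hw, ← LinearMap.comp_apply, LinearMap.rTensor_comp_lTensor, ← LinearMap.lTensor_comp_rTensor]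
  rfl

/-- The degree `i < 0` part. -/
theorem exactAt_of_away (f : R) {P : DRing.Cx R} (hfl : DRing.TermwiseFlat P)
    (hA : ∀ (V : ModuleCat.{u} (Localization.Away f)) (i : ℤ), i < 0 →
      ((tens V).obj (((ModuleCat.extendScalars.{u, u, u} (algebraMap R (Localization.Away f))).mapHomologicalComplex
        (ComplexShape.up ℤ)).obj P)).ExactAt i)
    (hQ : ∀ (M : ModuleCat.{u} R), Ideal.span ({f} : Set R) • (⊤ : Submodule R M) = ⊥ →
      ∀ i : ℤ, i < 0 → ((tens M).obj P).ExactAt i)
    (N : ModuleCat.{u} R) (i : ℤ) (hi : i < 0) : ((tens N).obj P).ExactAt i := by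
  let W := LocalizedModule (Submonoid.powers f) N
  let ι : N →ₗ[R] W := LocalizedModule.mkLinearMap (Submonoid.powers f) N
  let K : Submodule R N := LinearMap.ker ι
  refine exactAt_tens_of_submodule hfl i N K
    (exactAt_of_torsion f hfl i (fun M hM => hQ M hM i hi) K fun x => ?_) ?_
  · obtain ⟨_, ⟨n, rfl⟩, hn⟩ := (LocalizedModule.mem_ker_mkLinearMap_iff).1 x.2
    exact ⟨n, Subtype.ext hn⟩
  · let j : (N ⧸ K) →ₗ[R] W := K.liftQ ι le_rfl
    have hj : Function.Injective j := LinearMap.ker_eq_bot.1 (Submodule.ker_liftQ_eq_bot _ _ le_rfl le_rfl)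
    refine exactAt_sub hfl j (LinearMap.range j).mkQ (fun y => ?_) hj (Submodule.mkQ_surjective _) i ?_
      (exactAt_of_torsion f hfl (i - 1) (fun M hM => hQ M hM (i - 1) (by omega)) _ fun y => ?_)
    · rw [Submodule.mkQ_apply, Submodule.Quotient.mk_eq_zero]; rfl
    · let V : ModuleCat.{u} (Localization.Away f) := ModuleCat.of (Localization.Away f) W
      let e : (ModuleCat.restrictScalars.{u} (algebraMap R (Localization.Away f))).obj V ≅ ModuleCat.of R W :=
        @LinearEquiv.toModuleIso R _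
          ((ModuleCat.restrictScalars.{u} (algebraMap R (Localization.Away f))).obj V) (ModuleCat.of R W)
          inferInstance inferInstance
          ((ModuleCat.restrictScalars.{u} (algebraMap R (Localization.Away f))).obj V).isModule
          (ModuleCat.of R W).isModule
          { toFun := fun x => x
            invFun := fun x => x
            map_add' := fun _ _ => rfl
            map_smul' := fun r x => algebraMap_smul (Localization.Away f) r (show W from x)
            left_inv := fun _ => rfl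
            right_inv := fun _ => rfl }
      exact ((exactAt_tens_restrict_iff (algebraMap R (Localization.Away f)) P V i).1 (hA V i hi)).of_iso
        ((NatIso.mapHomologicalComplex ((curriedTensor (ModuleCat.{u} R)).flip.mapIso e) (ComplexShape.up ℤ)).app P)
    · obtain ⟨w, rfl⟩ := Submodule.Quotient.mk_surjective _ y
      induction w using LocalizedModule.induction_on with
      | _ m s =>
        obtain ⟨_, n, rfl⟩ := s
        refine ⟨n, ?_⟩
        rw [← Submodule.Quotient.mk_smul, Submodule.Quotient.mk_eq_zero]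
        refine ⟨K.mkQ m, ?_⟩
        show ι m = f ^ n • LocalizedModule.mk m _
        rw [LocalizedModule.smul'_mk, LocalizedModule.mkLinearMap_apply]
        exact (LocalizedModule.mk_cancel (⟨f ^ n, n, rfl⟩ : Submonoid.powers f) m).symm

/-- The statement. -/
theorem exists_flat {M : Dual.D R} (f : R)
    [DRing.HasLBaseChange (algebraMap R (Localization.Away f))]
    [DRing.HasLBaseChange (Ideal.Quotient.mk (Ideal.span ({f} : Set R)))]
    (h1 : ∀ i : ℤ, 0 < i → Subsingleton (Dual.HD R M i))
    (h2 : DRing.HasTorAmplitudeIn (Localization.Away f) 0 0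
      ((DRing.LBaseChange (algebraMap R (Localization.Away f))).obj M))
    (h3 : DRing.HasTorAmplitudeIn (R ⧸ Ideal.span ({f} : Set R)) 0 0
      ((DRing.LBaseChange (Ideal.Quotient.mk (Ideal.span ({f} : Set R)))).obj M)) :
    ∃ N : ModuleCat.{u} R, Module.Flat R N ∧ Nonempty (M ≅ Dual.inD R N) := by
  obtain ⟨P, hP, ⟨e⟩⟩ := exists_projRep h1
  have hK := isKFlat_of_flat hP.above hP.flat
  have ta : ∀ {B : Type u} [CommRing B] (φ : R →+* B) [DRing.HasLBaseChange φ],
      DRing.HasTorAmplitudeIn B 0 0 ((DRing.LBaseChange φ).obj M) →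
      ∀ (V : ModuleCat.{u} B) (i : ℤ), i < 0 →
        ((tens V).obj (((ModuleCat.extendScalars.{u, u, u} φ).mapHomologicalComplex
          (ComplexShape.up ℤ)).obj P)).ExactAt i := fun φ _ h V i hi =>
    exactAt_tens_of_ta (H25DTen.isKFlat_extCx φ hK)
      (ta_of_iso (((DRing.LBaseChange φ).mapIso e).symm ≪≫ lbaseObj φ P hK) h) V (Or.inl hi)
  have hT : DRing.HasTorAmplitudeIn R 0 0 M := by
    refine ta_of_tv (tv_of_rep hP.above hP.flat e fun N i hi => ?_)
    rcases hi with hi | hi
    · refine exactAt_of_away f hP.flat (ta _ h2) (fun V hV j hj => ?_) N i hi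
      refine exactAt_tens_of_surjective Ideal.Quotient.mk_surjective V ?_ fun W => ta _ h3 W j hj
      rw [Ideal.mk_ker]; exact hV
    · exact (HomologicalComplex.exactAt_iff _ _).2 (ShortComplex.exact_of_isZero_X₂ (((tens N).obj P).sc i)
        ((tensorRight N).map_isZero (hP.above i hi)))
  obtain ⟨E, hE, hF, ⟨e'⟩⟩ := hT
  haveI : E.IsStrictlyGE 0 := (CochainComplex.isStrictlyGE_iff E 0).2 fun i hi => hE i (Or.inl hi)
  haveI : E.IsStrictlyLE 0 := (CochainComplex.isStrictlyLE_iff E 0).2 fun i hi => hE i (Or.inr hi)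
  obtain ⟨Y, ⟨g⟩⟩ := CochainComplex.exists_iso_single E 0
  let eY : E.X 0 ≅ Y := (HomologicalComplex.eval (ModuleCat.{u} R) (ComplexShape.up ℤ) 0).mapIso g ≪≫
      HomologicalComplex.singleObjXSelf (ComplexShape.up ℤ) 0 Y
  haveI := hF 0
  exact ⟨Y, Module.Flat.of_linearEquiv eY.toLinearEquiv.symm,
    ⟨(PCoh.inDIso Y ≪≫ DerivedCategory.Q.mapIso g.symm ≪≫ e').symm⟩⟩

end Groth.Agent.H4DR.TorAmp.AwayQuot
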