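import Groth.Agent.H4DR.TorAmp.LTensorCx
import Groth.Agent.S6902

/-!
# Tor amplitude bounded below
-/

set_option autoImplicit false
set_option linter.style.haveILetI false

universe u

open CategoryTheory CategoryTheory.Limits MonoidalCategory
open Groth.Agent.H16Derived

attribute [local instance] HasDerivedCategory.standard

namespace Groth.Agent.H4DR.TorAmp.Below

open Groth.Agent.H4DR.KFlatMod (bi)

variable {R : Type u} [CommRing R]

/-- The kernel of a surjection of flat modules is flat. -/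
lemma flat_left {M₁ M₂ M₃ : Type u} [AddCommGroup M₁] [Module R M₁] [AddCommGroup M₂] [Module R M₂]
    [AddCommGroup M₃] [Module R M₃] (f : M₁ →ₗ[R] M₂) (g : M₂ →ₗ[R] M₃) (hf : Function.Injective f)
    (hg : Function.Surjective g) (hfg : Function.Exact f g) [Module.Flat R M₂] [Module.Flat R M₃] :
    Module.Flat R M₁ := by
  refine Module.Flat.iff_rTensor_preserves_injective_linearMap.2 fun P N _ _ _ _ φ hφ => ?_
  have h1 : Function.Injective (f.lTensor P) :=
    LinearMap.lTensor_injective_of_exact_of_flat g hg f hf hfg P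
  have h2 : Function.Injective (φ.rTensor M₂) := Module.Flat.rTensor_preserves_injective_linearMap φ hφ
  have h : f.lTensor N ∘ₗ φ.rTensor M₁ = φ.rTensor M₂ ∘ₗ f.lTensor P :=
    (LinearMap.lTensor_comp_rTensor _ _ _).trans (LinearMap.rTensor_comp_lTensor _ _ _).symm
  refine Function.Injective.of_comp (f := f.lTensor N) ?_
  show Function.Injective (f.lTensor N ∘ₗ φ.rTensor M₁)
  rw [h]
  exact h2.comp h1

/-- `M ⊗^L K` is computed by a K-flat resolution. -/
lemma exists_res (K : DRing.Cx R) [DRing.HasLTensorCx R K] :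
    ∃ (K' : DRing.Cx R) (r : K' ⟶ K), QuasiIso r ∧ KFlat.IsKFlat (bi R) K' ∧ DRing.TermwiseFlat K' ∧
      ∀ (M : ModuleCat.{u} R) (i : ℤ), Subsingleton (Dual.HD R ((DRing.LTensorCx R K).obj
          (DRing.toD ((CochainComplex.singleFunctor (ModuleCat.{u} R) 0).obj M))) i) ↔
        ((tens M).obj K').ExactAt i := by
  obtain ⟨K', r, hK', hfl, hr, -⟩ := KFlatMod.exists_resolution K
  haveI := hr
  refine ⟨K', r, hr, hK', hfl, fun M i => ?_⟩
  let L : DRing.Cx R := (CochainComplex.singleFunctor (ModuleCat.{u} R) 0).obj M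
  obtain ⟨P, s, hP, -, hs, -⟩ := KFlatMod.exists_resolution L
  haveI := hs
  let e₁ : (DRing.LTensorCx R K).obj (DRing.toD L) ≅ DRing.toD (P ⊗ K) :=
    (DRing.LTensorCx R K).mapIso (@asIso _ _ _ _ _ (H25DTen.isIso_Q_map s hs)).symm ≪≫ ltensorCxObj K P hP
  have h₁ := H25DTen.isIso_Q_map (P ◁ r) (H25DTen.quasiIso_whiskerLeft P hP r)
  have h₂ := H25DTen.isIso_Q_map (s ▷ K') (KFlatMod.quasiIso_whiskerRight hK' s)
  let e₂ : DRing.toD (P ⊗ K) ≅ DRing.toD (L ⊗ K') :=
    (@asIso _ _ _ _ _ h₁).symm ≪≫ (@asIso _ _ _ _ _ h₂)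
  let e₃ : L ⊗ K' ≅ (tens M).obj K' :=
    (KFlat.singleLeftIso (bi R) L K' (fun p hp => HomologicalComplex.isZero_single_obj_X _ _ _ _ hp)).symm ≪≫
      (NatIso.mapHomologicalComplex ((curriedTensor (ModuleCat.{u} R)).mapIso
        (HomologicalComplex.singleObjXSelf (ComplexShape.up ℤ) 0 M) ≪≫
          BraidedCategory.tensorLeftIsoTensorRight M) (ComplexShape.up ℤ)).app K'
  let e : (DerivedCategory.homologyFunctor (ModuleCat.{u} R) i).obj ((DRing.LTensorCx R K).obj (DRing.toD L)) ≅
      ((tens M).obj K').homology i :=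
    (DerivedCategory.homologyFunctor (ModuleCat.{u} R) i).mapIso (e₁ ≪≫ e₂) ≪≫
      (DerivedCategory.homologyFunctorFactors (ModuleCat.{u} R) i).app _ ≪≫
      isoOfQuasiIsoAt e₃.hom i
  rw [HomologicalComplex.exactAt_iff_isZero_homology, ← e.isZero_iff]
  exact ModuleCat.isZero_of_iff_subsingleton.symm

/-- Exactness after tensoring does not depend on the K-flat representative. -/
lemma exactAt_tens_of_iso {E K' : DRing.Cx R} (hE : KFlat.IsKFlat (bi R) E) (hK' : KFlat.IsKFlat (bi R) K')
    (e : DRing.toD E ≅ DRing.toD K') (M : ModuleCat.{u} R) (i : ℤ) (h : ((tens M).obj E).ExactAt i) :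
    ((tens M).obj K').ExactAt i := by
  obtain ⟨X, s, hs, g, hg⟩ := DerivedCategory.right_fac (X := E) (Y := K') e.hom
  obtain ⟨P, p, hP, -, hp, -⟩ := KFlatMod.exists_resolution X
  haveI := hp
  haveI hs' : QuasiIso s := (DerivedCategory.isIso_Q_map_iff_quasiIso (φ := s)).1 hs
  haveI hg' : QuasiIso g := (DerivedCategory.isIso_Q_map_iff_quasiIso (φ := g)).1 (by
    have : DerivedCategory.Q.map g = DerivedCategory.Q.map s ≫ e.hom := by rw [hg, IsIso.hom_inv_id_assoc]
    rw [this]; infer_instance)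
  have h1 := (quasiIso_tens (p ≫ s) hP hE M).quasiIsoAt i
  have h2 := (quasiIso_tens (p ≫ g) hP hK' M).quasiIsoAt i
  rw [HomologicalComplex.exactAt_iff_isZero_homology] at h ⊢
  exact IsZero.of_iso h ((@isoOfQuasiIsoAt _ _ _ _ _ _ _ ((tens M).map (p ≫ g)) i _ _ h2).symm ≪≫
    @isoOfQuasiIsoAt _ _ _ _ _ _ _ ((tens M).map (p ≫ s)) i _ _ h1)

/-- The truncation of a K-flat complex of flats exact after tensoring below `a`. -/
theorem trunc (K' : DRing.Cx R) (hK' : KFlat.IsKFlat (bi R) K') (hfl : DRing.TermwiseFlat K') (a : ℤ)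
    (h : ∀ (M : ModuleCat.{u} R) (i : ℤ), i < a → ((tens M).obj K').ExactAt i) :
    (∀ L : DRing.Cx R, (∀ i : ℤ, IsZero (L.homology i)) → ∀ i : ℤ, IsZero ((L ⊗ CochainComplex.truncGE K' a).homology i)) ∧
      DRing.TermwiseFlat (CochainComplex.truncGE K' a) ∧ (∀ i, i < a → IsZero ((CochainComplex.truncGE K' a).X i)) ∧
      QuasiIso (K'.πTruncGE a) := by
  have hz : ∀ i, i < a → IsZero ((CochainComplex.truncGE K' a).X i) := fun i hi =>
    CochainComplex.isZero_of_isStrictlyGE _ a i hi
  have hflat : DRing.TermwiseFlat (CochainComplex.truncGE K' a) := fun i => by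
    rcases lt_trichotomy i a with hi | rfl | hi
    · haveI := ModuleCat.subsingleton_of_isZero (hz i hi)
      infer_instance
    · haveI := flat_opcycles hfl i fun M => h M (i - 1) (by omega)
      exact Module.Flat.of_linearEquiv (CochainComplex.truncGEXIsoOpcycles K' i).toLinearEquiv
    · haveI := hfl i
      exact Module.Flat.of_linearEquiv (K'.truncGEXIso a i hi).toLinearEquiv
  haveI : K'.IsGE a := (CochainComplex.isGE_iff K' a).2 fun i hi => exactAt_of_exactAt_tens_unit (h _ i hi)
  refine ⟨?_, hflat, hz, (CochainComplex.quasiIso_πTruncGE_iff K' a).2 inferInstance⟩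
  let S : ShortComplex (DRing.Cx R) := ShortComplex.mk (kernel.ι (K'.πTruncGE a)) (K'.πTruncGE a) (kernel.condition _)
  haveI : Epi (K'.πTruncGE a) := by unfold CochainComplex.πTruncGE; infer_instance
  have hS : S.ShortExact := { exact := ShortComplex.exact_kernel _, mono_f := inferInstanceAs (Mono (kernel.ι _)), epi_g := ‹_› }
  have hS' := fun i => hS.map_of_exact (HomologicalComplex.eval (ModuleCat.{u} R) (ComplexShape.up ℤ) i)
  have hker : DRing.TermwiseFlat S.X₁ := fun i => by
    haveI : Module.Flat R ((S.map (HomologicalComplex.eval (ModuleCat.{u} R) (ComplexShape.up ℤ) i)).X₂) := hfl i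
    haveI : Module.Flat R ((S.map (HomologicalComplex.eval (ModuleCat.{u} R) (ComplexShape.up ℤ) i)).X₃) := hflat i
    exact flat_left _ _ (hS' i).moduleCat_injective_f (hS' i).moduleCat_surjective_g
      ((ShortComplex.ShortExact.moduleCat_exact_iff_function_exact _).1 (hS' i).exact)
  have hkz : DRing.VanishesAbove S.X₁ a := fun i hi => by
    haveI : IsIso ((K'.πTruncGE a).f i) := by
      have hn : (ComplexShape.embeddingUpIntGE a).f (i - a).toNat = i := by
        show a + ((i - a).toNat : ℤ) = i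
        omega
      show IsIso ((HomologicalComplex.πTruncGE K' (ComplexShape.embeddingUpIntGE a)).f i)
      refine (ComplexShape.Embedding.isIso_liftExtend_f_iff _ (K'.restrictionToTruncGE' _)
        (K'.restrictionToTruncGE'_hasLift _) hn).2 ?_
      refine K'.isIso_restrictionToTruncGE' _ _ ?_
      rw [ComplexShape.boundaryGE_embeddingUpIntGE_iff]
      omega
    haveI : Subsingleton (S.X₁.X i) := by
      refine subsingleton_of_forall_eq 0 fun w => (hS' i).moduleCat_injective_f ?_
      refine ((ModuleCat.mono_iff_injective ((K'.πTruncGE a).f i)).1 inferInstance) ?_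
      refine (((ShortComplex.ShortExact.moduleCat_exact_iff_function_exact _).1 (hS' i).exact).apply_apply_eq_zero w).trans ?_
      exact (by simp : ((K'.πTruncGE a).f i).hom ((kernel.ι (K'.πTruncGE a)).f i 0) = 0).symm
    exact ModuleCat.isZero_of_subsingleton _
  exact (S6902.result R S hS hflat).1
    ((KFlatMod.iff_isKFlat _).2 (isKFlat_of_flat hkz hker)) ((KFlatMod.iff_isKFlat _).2 hK')

end Groth.Agent.H4DR.TorAmp.Below
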