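import Groth.Agent.H4DR.TorAmp.Pair
import Groth.Agent.H4DR.TorAmp.Quotient
import Groth.Agent.H4DR.TorAmp.Modules
import Groth.Agent.H4DR.Hom.Regular
import Groth.Agent.H05EGA4.Regular
import Mathlib.RingTheory.TensorProduct.Quotient
import Groth.Agent.H8Props.PseudoCoh.Regular

/-!
# Tor amplitude from the fibres of a flat ring map
-/

set_option autoImplicit false
set_option linter.style.haveILetI false

universe u

open CategoryTheory CategoryTheory.Limits MonoidalCategory TensorProduct
open Groth.Agent.H16Derived

attribute [local instance] HasDerivedCategory.standard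

namespace Groth.Agent.H4DR.TorAmp.Fibrewise

open Groth.Agent.H4DR.KFlatMod (bi)

variable {A B : Type u} [CommRing A] [CommRing B] [Algebra A B]

/-- `X ⊗_B (k ⊗_A B)` is `X ⊗_A k`. -/
noncomputable def fibreIso (k : Type u) [CommRing k] [Algebra A k] :
    tensorRight ((ModuleCat.restrictScalars.{u} (Algebra.TensorProduct.includeRight (R := A) (A := k) (B := B)).toRingHom).obj
        (ModuleCat.of (k ⊗[A] B) (k ⊗[A] B))) ⋙ ModuleCat.restrictScalars.{u} (algebraMap A B) ≅
      ModuleCat.restrictScalars.{u} (algebraMap A B) ⋙ tensorRight (ModuleCat.of A k) :=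
  let ψ := (Algebra.TensorProduct.includeRight (R := A) (A := k) (B := B)).toRingHom
  let C' := (ModuleCat.restrictScalars.{u} ψ).obj (ModuleCat.of (k ⊗[A] B) (k ⊗[A] B))
  let ec : C' ≅ ModuleCat.of B (B ⊗[A] k) :=
    @LinearEquiv.toModuleIso B _ C' (ModuleCat.of B (B ⊗[A] k)) inferInstance inferInstance
      C'.isModule (ModuleCat.of B (B ⊗[A] k)).isModule
      { toFun := fun z => TensorProduct.comm A k B z
        invFun := fun z => (TensorProduct.comm A k B).symm z
        map_add' := fun z w => map_add (TensorProduct.comm A k B) z w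
        map_smul' := fun r z => by
          show TensorProduct.comm A k B (((1 : k) ⊗ₜ[A] r) * (show k ⊗[A] B from z)) = r • TensorProduct.comm A k B z
          generalize (show k ⊗[A] B from z) = z
          induction z using TensorProduct.induction_on with
          | zero => simp
          | add x y hx hy => rw [mul_add, map_add, hx, hy, map_add, smul_add]
          | tmul x y => simp [Algebra.TensorProduct.tmul_mul_tmul, TensorProduct.smul_tmul']
        left_inv := fun z => (TensorProduct.comm A k B).symm_apply_apply z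
        right_inv := fun z => (TensorProduct.comm A k B).apply_symm_apply z }
  Functor.isoWhiskerRight ((curriedTensor (ModuleCat.{u} B)).flip.mapIso ec) _ ≪≫
  NatIso.ofComponents (fun X =>
    letI : Module A X := Module.compHom X (algebraMap A B)
    haveI : IsScalarTower A B X := .of_algebraMap_smul fun _ _ => rfl
    let e : (X : Type u) ⊗[B] (B ⊗[A] k) ≃ₗ[B] (X : Type u) ⊗[A] k :=
      TensorProduct.AlgebraTensorModule.cancelBaseChange A B B X k
    let X₁ : ModuleCat.{u} A := (ModuleCat.restrictScalars.{u} (algebraMap A B)).obj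
      ((tensorRight (ModuleCat.of B (B ⊗[A] k))).obj X)
    let X₂ : ModuleCat.{u} A := (tensorRight (ModuleCat.of A k)).obj
      ((ModuleCat.restrictScalars.{u} (algebraMap A B)).obj X)
    @LinearEquiv.toModuleIso A _ X₁ X₂ inferInstance inferInstance X₁.isModule X₂.isModule
      { toFun := fun z => e z
        invFun := fun z => e.symm z
        map_add' := fun z w => e.map_add z w
        map_smul' := fun r z => (e.map_smul (algebraMap A B r) z).trans (algebraMap_smul B r (e z))
        left_inv := fun z => e.symm_apply_apply z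
        right_inv := fun z => e.apply_symm_apply z })
    (fun {X Y} g => by
      refine ModuleCat.hom_ext (LinearMap.ext fun z => ?_)
      induction z using TensorProduct.induction_on with
      | zero => exact (map_zero _).trans (map_zero _).symm
      | add a b ha hb =>
        exact (map_add _ a b).trans ((congrArg₂ (· + ·) ha hb).trans (map_add _ a b).symm)
      | tmul x w =>
        induction w using TensorProduct.induction_on with
        | zero =>
          erw [TensorProduct.tmul_zero]; exact (map_zero _).trans (map_zero _).symm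
        | add a b ha hb =>
          erw [TensorProduct.tmul_add]
          exact (map_add _ _ _).trans ((congrArg₂ (· + ·) ha hb).trans (map_add _ _ _).symm)
        | tmul r c =>
          letI : Module A X := Module.compHom X (algebraMap A B)
          letI : Module A Y := Module.compHom Y (algebraMap A B)
          show _ ⊗ₜ[A] c = _ ⊗ₜ[A] c
          exact congrArg (fun v => v ⊗ₜ[A] c) (g.hom.map_smul r x).symm)

/-- An object over a ring of global dimension at most `d`. -/
theorem ta_of_gldim {C : Type u} [CommRing C] (d : ℕ)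
    (hgl : ∀ (M : Type u) [AddCommGroup M] [Module C M], HasProjectiveDimensionLT (ModuleCat.of C M) (d + 1))
    {a b : ℤ} {K : Dual.D C} (h : ∀ i, (i < a ∨ b < i) → Subsingleton (Dual.HD C K i)) :
    DRing.HasTorAmplitudeIn C (a - d) b K := by
  refine ta_of_homology (b + 1 - a).toNat a (fun i hi => h i (by omega)) fun i => ?_
  by_cases hi : i < a ∨ b < i
  · haveI := h i hi
    exact ta_of_isZero ((DerivedCategory.singleFunctor (ModuleCat.{u} C) 0).map_isZero
      (ModuleCat.isZero_of_subsingleton _))
  · exact ta_mono (by omega) (by omega) ((ta_inD_iff d (ModuleCat.of C (Dual.HD C K i))).2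
      (H8Props.PseudoCoh.hasTorDimLE_of_hasProjectiveDimensionLT d _ (hgl _)))

/-- The closed fibre of `K`, from the fibre over `A` of dimension at most `d`. -/
theorem subsingleton_fibre [Module.Flat A B] (d : ℕ) (k : Type u) [CommRing k] [Algebra A k]
    (hgl : ∀ (M : Type u) [AddCommGroup M] [Module (k ⊗[A] B) M],
      HasProjectiveDimensionLT (ModuleCat.of (k ⊗[A] B) M) (d + 1))
    {R' : Type u} [CommRing R'] (θ : B →+* R') [DRing.HasLBaseChange θ] (χ : k ⊗[A] B →+* R')
    (hχ : χ.comp (Algebra.TensorProduct.includeRight (R := A) (A := k) (B := B)).toRingHom = θ)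
    {P : DRing.Cx B} {c : ℤ} (hb : DRing.VanishesAbove P c) (hflat : DRing.TermwiseFlat P) {K : Dual.D B}
    (e : DRing.toD P ≅ K) (a b : ℤ)
    (hA : ∀ j : ℤ, (j < a ∨ b < j) → ((tens (ModuleCat.of A k)).obj
      (((ModuleCat.restrictScalars.{u} (algebraMap A B)).mapHomologicalComplex (ComplexShape.up ℤ)).obj P)).ExactAt j)
    (i : ℤ) (hi : i < a - d ∨ b < i) :
    Subsingleton (Dual.HD R' ((DRing.LBaseChange θ).obj K) i) := by
  have hP := isKFlat_of_flat hb hflat
  let ψ := (Algebra.TensorProduct.includeRight (R := A) (A := k) (B := B)).toRingHom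
  let W := ((ModuleCat.extendScalars.{u, u, u} ψ).mapHomologicalComplex (ComplexShape.up ℤ)).obj P
  have hW : DRing.HasTorAmplitudeIn (k ⊗[A] B) (a - d) b (DRing.toD W) := ta_of_gldim d hgl fun j hj => by
    rw [subsingleton_HD_toD_iff, exactAt_ext_iff_tens ψ P j, ← exactAt_restrict_iff (algebraMap A B)]
    exact (hA j hj).of_iso ((NatIso.mapHomologicalComplex (fibreIso k) (ComplexShape.up ℤ)).app P).symm
  subst hχ
  have hex : (((ModuleCat.extendScalars.{u, u, u} (χ.comp ψ)).mapHomologicalComplex
      (ComplexShape.up ℤ)).obj P).ExactAt i :=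
    ((exactAt_ext_iff_tens χ W i).2
      (exactAt_tens_of_ta (H25DTen.isKFlat_extCx ψ hP) hW _ hi)).of_iso (extCompIso ψ χ P).symm
  haveI := (subsingleton_HD_toD_iff _ i).2 hex
  exact (PCoh.hEquiv i (((DRing.LBaseChange _).mapIso e).symm ≪≫
    lbaseObj (χ.comp ψ) P hP)).injective.subsingleton

/-- `Q = P|_A` of a termwise flat complex. -/
lemma flat_restrict [Module.Flat A B] {P : DRing.Cx B} (hflat : DRing.TermwiseFlat P) :
    DRing.TermwiseFlat (((ModuleCat.restrictScalars.{u} (algebraMap A B)).mapHomologicalComplex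
      (ComplexShape.up ℤ)).obj P) := fun j => by
  letI : Module A (P.X j) := Module.compHom (P.X j) (algebraMap A B)
  haveI : IsScalarTower A B (P.X j) := .of_algebraMap_smul fun _ _ => rfl
  haveI := hflat j
  exact Module.Flat.trans A B (P.X j)

theorem isPerfect_of_fibres [Module.Flat A B] (d : ℕ)
    (hgl : ∀ (p : PrimeSpectrum A) (M : Type u) [AddCommGroup M]
      [Module (TensorProduct A p.asIdeal.ResidueField B) M],
      HasProjectiveDimensionLT (ModuleCat.of (TensorProduct A p.asIdeal.ResidueField B) M) (d + 1))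
    [∀ m : Ideal B, DRing.HasLBaseChange (Ideal.Quotient.mk m)] (a b : ℤ) (K : Dual.D B)
    (hK : DRing.IsPseudoCoherent' B K)
    (hKa : DRing.HasTorAmplitudeIn A a b ((DRing.restrictD (algebraMap A B)).obj K)) :
    DRing.IsPerfect B K ∧ DRing.HasTorAmplitudeIn B (a - d) b K := by
  refine ta_of_residue hK (a - d) b fun m hm i hi => ?_
  obtain ⟨P, c, hb, hF, ⟨e⟩⟩ := hK
  have hflat : DRing.TermwiseFlat P := fun j => haveI := (hF j).2; inferInstance
  let G := ModuleCat.restrictScalars.{u} (algebraMap A B)
  have hQ := isKFlat_of_flat (c := c) (fun j hj => G.map_isZero (hb j hj)) (flat_restrict (A := A) hflat)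
  have hta : DRing.HasTorAmplitudeIn A a b (DRing.toD ((G.mapHomologicalComplex (ComplexShape.up ℤ)).obj P)) :=
    ta_of_iso ((G.mapDerivedCategory.mapIso e).symm ≪≫ G.mapDerivedCategoryFactors.app P) hKa
  let p : PrimeSpectrum A := ⟨m.comap (algebraMap A B), inferInstance⟩
  let C := TensorProduct A p.asIdeal.ResidueField B
  let ψ : B →+* C := (Algebra.TensorProduct.includeRight (R := A) (A := p.asIdeal.ResidueField) (B := B)).toRingHom
  letI := Ideal.Quotient.field m
  let g : p.asIdeal.ResidueField →+* B ⧸ m :=
    Ideal.ResidueField.lift p.asIdeal ((Ideal.Quotient.mk m).comp (algebraMap A B))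
      (fun x hx => RingHom.mem_ker.2 (Ideal.Quotient.eq_zero_iff_mem.2 hx))
      (fun x hx => isUnit_iff_ne_zero.2 fun h0 => hx ((Ideal.Quotient.eq_zero_iff_mem (I := m)).1 h0))
  let gA : p.asIdeal.ResidueField →ₐ[A] B ⧸ m :=
    { g with commutes' := fun r => Ideal.ResidueField.lift_algebraMap _ _ _ _ r }
  let qA : B →ₐ[A] B ⧸ m := { Ideal.Quotient.mk m with commutes' := fun _ => rfl }
  let χ : C →+* B ⧸ m := (Algebra.TensorProduct.lift gA qA fun _ _ => Commute.all _ _).toRingHom
  have hχ : χ.comp ψ = Ideal.Quotient.mk m := RingHom.ext fun x => by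
    show Algebra.TensorProduct.lift gA qA (fun _ _ => Commute.all _ _) ((1 : p.asIdeal.ResidueField) ⊗ₜ[A] x) = _
    rw [Algebra.TensorProduct.lift_tmul, map_one, one_mul]
    rfl
  exact subsingleton_fibre d p.asIdeal.ResidueField (hgl p) _ χ hχ hb hflat e a b
    (fun j hj => exactAt_tens_of_ta hQ hta _ hj) i hi

/-- The local criterion with a regular closed fibre. -/
theorem isPerfect_of_regular_fibre [IsLocalRing A] [IsLocalRing B] [IsLocalHom (algebraMap A B)]
    [Module.Flat A B] (d : ℕ)
    [IsRegularLocalRing (B ⧸ (IsLocalRing.maximalIdeal A).map (algebraMap A B))]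
    (hd : ringKrullDim (B ⧸ (IsLocalRing.maximalIdeal A).map (algebraMap A B)) = d)
    [DRing.HasLBaseChange (IsLocalRing.residue A)] (a b : ℤ) (K : Dual.D B) (hK : DRing.IsPseudoCoherent' B K)
    (h : ∀ i : ℤ, (i < a ∨ b < i) → Subsingleton (Dual.HD (IsLocalRing.ResidueField A)
      ((DRing.LBaseChange (IsLocalRing.residue A)).obj ((DRing.restrictD (algebraMap A B)).obj K)) i)) :
    DRing.IsPerfect B K ∧ DRing.HasTorAmplitudeIn B (a - d) b K := by
  haveI : ∀ m : Ideal B, DRing.HasLBaseChange (Ideal.Quotient.mk m) := fun m => hasLBaseChange _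
  refine ta_of_residue hK (a - d) b fun m hm i hi => ?_
  obtain ⟨P, c, hb, hF, ⟨e⟩⟩ := hK
  have hflat : DRing.TermwiseFlat P := fun j => haveI := (hF j).2; inferInstance
  let G := ModuleCat.restrictScalars.{u} (algebraMap A B)
  let Q := (G.mapHomologicalComplex (ComplexShape.up ℤ)).obj P
  have hQ : KFlat.IsKFlat (bi A) Q :=
    isKFlat_of_flat (c := c) (fun j hj => G.map_isZero (hb j hj)) (flat_restrict (A := A) hflat)
  obtain rfl := IsLocalRing.eq_maximalIdeal hm
  let C := IsLocalRing.ResidueField A ⊗[A] B
  let q : (B ⧸ (IsLocalRing.maximalIdeal A).map (algebraMap A B)) ≃+* C :=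
    (Algebra.TensorProduct.quotIdealMapEquivQuotTensor B (IsLocalRing.maximalIdeal A)).toRingEquiv
  haveI : IsRegularLocalRing C := IsRegularLocalRing.of_ringEquiv q
  have hdC : ringKrullDim C = d := by rw [← ringKrullDim_eq_of_ringEquiv q, hd]
  have hgl : ∀ (M : Type u) [AddCommGroup M] [Module C M], HasProjectiveDimensionLT (ModuleCat.of C M) (d + 1) :=
    fun M _ _ => Hom.hasProjectiveDimensionLT_of_regular
      (fun p => H05EGA4.isRegularLocalRing_localization C p.asIdeal) hdC _
  let g : IsLocalRing.ResidueField A →+* B ⧸ IsLocalRing.maximalIdeal B :=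
    Ideal.Quotient.lift _ ((Ideal.Quotient.mk (IsLocalRing.maximalIdeal B)).comp (algebraMap A B))
      fun x hx => Ideal.Quotient.eq_zero_iff_mem.2
        (((IsLocalRing.mem_maximalIdeal _).1 hx) ∘ (isUnit_of_map_unit (algebraMap A B) x))
  let gA : IsLocalRing.ResidueField A →ₐ[A] B ⧸ IsLocalRing.maximalIdeal B := { g with commutes' := fun _ => rfl }
  let qA : B →ₐ[A] B ⧸ IsLocalRing.maximalIdeal B :=
    { Ideal.Quotient.mk (IsLocalRing.maximalIdeal B) with commutes' := fun _ => rfl }
  let χ : C →+* B ⧸ IsLocalRing.maximalIdeal B :=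
    (Algebra.TensorProduct.lift gA qA fun _ _ => Commute.all _ _).toRingHom
  refine subsingleton_fibre d (IsLocalRing.ResidueField A) hgl _ χ (RingHom.ext fun x => ?_) hb hflat e a b
    (fun j hj => ?_) i hi
  · show Algebra.TensorProduct.lift gA qA (fun _ _ => Commute.all _ _) ((1 : IsLocalRing.ResidueField A) ⊗ₜ[A] x) = _
    rw [Algebra.TensorProduct.lift_tmul, map_one, one_mul]
    rfl
  · haveI := h j hj
    have hex : (((ModuleCat.extendScalars.{u, u, u} (IsLocalRing.residue A)).mapHomologicalComplex
        (ComplexShape.up ℤ)).obj Q).ExactAt j :=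
      (subsingleton_HD_toD_iff _ j).1 (PCoh.hEquiv j ((lbaseObj (IsLocalRing.residue A) Q hQ).symm ≪≫
        (DRing.LBaseChange _).mapIso ((G.mapDerivedCategoryFactors.app P).symm ≪≫
          G.mapDerivedCategory.mapIso e))).injective.subsingleton
    let κ := ModuleCat.of (IsLocalRing.ResidueField A) (IsLocalRing.ResidueField A)
    let eQ : (ModuleCat.restrictScalars.{u} (IsLocalRing.residue A)).obj κ ≅
        ModuleCat.of A (IsLocalRing.ResidueField A) :=
      @LinearEquiv.toModuleIso A _
        ((ModuleCat.restrictScalars.{u} (IsLocalRing.residue A)).obj κ) (ModuleCat.of A (IsLocalRing.ResidueField A))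
        inferInstance inferInstance
        ((ModuleCat.restrictScalars.{u} (IsLocalRing.residue A)).obj κ).isModule
        (ModuleCat.of A (IsLocalRing.ResidueField A)).isModule
        { toFun := fun x => x
          invFun := fun x => x
          map_add' := fun _ _ => rfl
          map_smul' := fun r x => (Algebra.smul_def r (show IsLocalRing.ResidueField A from x)).symm
          left_inv := fun _ => rfl
          right_inv := fun _ => rfl }
    exact ((exactAt_ext_iff_tens (IsLocalRing.residue A) Q j).1 hex).of_iso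
      ((NatIso.mapHomologicalComplex ((curriedTensor (ModuleCat.{u} A)).flip.mapIso eQ) (ComplexShape.up ℤ)).app Q)

end Groth.Agent.H4DR.TorAmp.Fibrewise
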