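import Groth.Agent.H4DR.TorAmp.Descent
import Groth.Agent.H4DR.TorAmp.LTensorCx
import Groth.Agent.H25DTen.Proj
import Groth.Prelude.Def_DTen6
import Mathlib.RingTheory.Flat.FaithfullyFlat.Basic

/-!
# Tor amplitude over a base along a faithfully flat map
-/

set_option autoImplicit false
set_option linter.style.haveILetI false

universe u

open CategoryTheory CategoryTheory.Limits MonoidalCategory
open Groth.Agent.H16Derived

attribute [local instance] HasDerivedCategory.standard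

namespace Groth.Agent.H4DR.TorAmp

open Groth.Agent.H4DR.KFlatMod (bi)

variable {R A B : Type u} [CommRing R] [CommRing A] [CommRing B]

/-- `M` in degree `0`. -/
noncomputable abbrev sgl0 (M : ModuleCat.{u} R) : DRing.Cx R :=
  (HomologicalComplex.single (ModuleCat.{u} R) (ComplexShape.up ℤ) 0).obj M

lemma exists_resolution_sgl (M : ModuleCat.{u} R) :
    ∃ P : DRing.Cx R, IsProjRep P 0 ∧ Nonempty (DRing.toD P ≅ DRing.toD (sgl0 M)) :=
  exists_projRep fun i hi => by
    rw [subsingleton_HD_toD_iff, HomologicalComplex.exactAt_iff_isZero_homology]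
    exact HomologicalComplex.isZero_single_obj_homology (ComplexShape.up ℤ) 0 M i (by omega)

lemma exactAt_iff_of_iso {X Y : DRing.Cx R} (e : X ≅ Y) (i : ℤ) : X.ExactAt i ↔ Y.ExactAt i := by
  rw [HomologicalComplex.exactAt_iff_isZero_homology, HomologicalComplex.exactAt_iff_isZero_homology]
  exact ((HomologicalComplex.homologyFunctor _ _ i).mapIso e).isZero_iff

lemma exactAt_iff_of_quasiIso {X Y : DRing.Cx R} (f : X ⟶ Y) [QuasiIso f] (i : ℤ) :
    X.ExactAt i ↔ Y.ExactAt i := by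
  rw [HomologicalComplex.exactAt_iff_isZero_homology, HomologicalComplex.exactAt_iff_isZero_homology]
  exact (isoOfQuasiIsoAt f i).isZero_iff

/-- Tor amplitude, computed with resolutions of the modules. -/
theorem ta_iff_resolutions (Z : DRing.Cx R) {c : ℤ} (hv : ∀ i, c < i → Z.ExactAt i) (a b : ℤ) :
    DRing.HasTorAmplitudeIn R a b (DRing.toD Z) ↔
      ∀ (M : ModuleCat.{u} R) (P : DRing.Cx R), IsProjRep P 0 →
        Nonempty (DRing.toD P ≅ DRing.toD (sgl0 M)) → ∀ i, (i < a ∨ b < i) → (P ⊗ Z).ExactAt i := by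
  obtain ⟨S, hS, ⟨eS⟩⟩ := exists_projRep fun i hi => (subsingleton_HD_toD_iff Z i).2 (hv i hi)
  obtain ⟨g, hg, -⟩ := exists_qis hS eS
  have key : ∀ (M : ModuleCat.{u} R) (P : DRing.Cx R), IsProjRep P 0 →
      Nonempty (DRing.toD P ≅ DRing.toD (sgl0 M)) → ∀ i,
      (P ⊗ Z).ExactAt i ↔ ((tens M).obj S).ExactAt i := by
    rintro M P hP ⟨eP⟩ i
    obtain ⟨s, hs, -⟩ := exists_qis hP eP
    haveI := hg
    haveI := hs
    have hSk := isKFlat_of_flat hS.above hS.flat
    haveI := H25DTen.quasiIso_whiskerLeft P (isKFlat_of_flat hP.above hP.flat) g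
    haveI := KFlatMod.quasiIso_whiskerRight hSk s
    rw [← exactAt_iff_of_quasiIso (P ◁ g) i, exactAt_iff_of_quasiIso (s ▷ S) i]
    exact exactAt_iff_of_iso ((KFlat.singleLeftIso (bi R) (sgl0 M) S
      (fun p hp => HomologicalComplex.isZero_single_obj_X _ _ _ _ hp)).symm ≪≫
      (NatIso.mapHomologicalComplex ((curriedTensor (ModuleCat.{u} R)).mapIso
        (HomologicalComplex.singleObjXSelf (ComplexShape.up ℤ) 0 M) ≪≫
          BraidedCategory.tensorLeftIsoTensorRight M) (ComplexShape.up ℤ)).app S) i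
  rw [← tv_iff]
  refine ⟨fun h M P hP eP i hi => (key M P hP eP i).2 (h.exactAt hS.above hS.flat eS M hi),
    fun h => tv_of_rep hS.above hS.flat eS fun M i hi => ?_⟩
  obtain ⟨P, hP, eP⟩ := exists_resolution_sgl M
  exact (key M P hP eP i).1 (h M P hP eP i hi)

/-- Projection formula, in the exactness form. -/
lemma exactAt_tensor_res (φ : R →+* A) (Y : DRing.Cx A) (P : DRing.Cx R) (i : ℤ) :
    (P ⊗ (DTen.resCx φ).obj Y).ExactAt i ↔ (Y ⊗ (DTen.extCx φ).obj P).ExactAt i := by
  haveI := H25DTen.isIso_projCx φ Y P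
  rw [exactAt_iff_of_iso (DTen.braidCx P ((DTen.resCx φ).obj Y) ≪≫ asIso (H25DTen.projCx φ Y P)) i]
  exact exactAt_restrict_iff φ (Y ⊗ (DTen.extCx φ).obj P) i

lemma isZero_of_extend (ψ : A →+* B) (hψ : ψ.FaithfullyFlat) (X : ModuleCat.{u} A)
    (hX : IsZero ((ModuleCat.extendScalars.{u, u, u} ψ).obj X)) : IsZero X := by
  algebraize [ψ]
  haveI : Subsingleton (TensorProduct A B X) := ModuleCat.subsingleton_of_isZero hX
  exact ModuleCat.isZero_of_iff_subsingleton.2
    ((Module.FaithfullyFlat.subsingleton_tensorProduct_iff_right A B).1 inferInstance)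

/-- Tor amplitude over `R` is detected after a faithfully flat extension. -/
theorem ta_flat_tower (φ : R →+* A) (ψ : A →+* B) (hψ : ψ.Flat)
    (hcons : ∀ X : ModuleCat.{u} A,
      IsZero ((ModuleCat.extendScalars.{u, u, u} ψ).obj X) → IsZero X)
    [DRing.HasLBaseChange ψ] (K : Dual.D A) (a b : ℤ) :
    DRing.HasTorAmplitudeIn R a b ((DRing.restrictD φ).obj K) ↔
      DRing.HasTorAmplitudeIn R a b
        ((DRing.restrictD (ψ.comp φ)).obj ((DRing.LBaseChange ψ).obj K)) := by
  haveI : PreservesFiniteLimits (ModuleCat.extendScalars.{u, u, u} ψ) :=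
    ModuleCat.preservesFiniteLimits_extendScalars_of_flat hψ
  have hext : ∀ (W : DRing.Cx A) (i : ℤ), ((DTen.extCx ψ).obj W).ExactAt i ↔ W.ExactAt i := by
    intro W i
    rw [exactAt_map_iff, HomologicalComplex.exactAt_iff_isZero_homology]
    exact ⟨hcons _, fun h => (ModuleCat.extendScalars.{u, u, u} ψ).map_isZero h⟩
  let er : ∀ (Y : DRing.Cx A), (DRing.restrictD φ).obj (DRing.toD Y) ≅
      DRing.toD ((DTen.resCx φ).obj Y) := fun Y =>
    (ModuleCat.restrictScalars.{u} φ).mapDerivedCategoryFactors.app Y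
  let er' : ∀ (Y : DRing.Cx B), (DRing.restrictD (ψ.comp φ)).obj (DRing.toD Y) ≅
      DRing.toD ((DTen.resCx (ψ.comp φ)).obj Y) := fun Y =>
    (ModuleCat.restrictScalars.{u} (ψ.comp φ)).mapDerivedCategoryFactors.app Y
  have main : ∀ (P : DRing.Cx A) (c : ℤ), IsProjRep P c → ∀ (e : DRing.toD P ≅ K),
      (DRing.HasTorAmplitudeIn R a b ((DRing.restrictD φ).obj K) ↔
      DRing.HasTorAmplitudeIn R a b
        ((DRing.restrictD (ψ.comp φ)).obj ((DRing.LBaseChange ψ).obj K))) := by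
    intro P c hP e
    have hPx : ∀ i, c < i → P.ExactAt i := fun i hi => (HomologicalComplex.exactAt_iff _ _).2
      (ShortComplex.exact_of_isZero_X₂ _ (hP.above i hi))
    let e1 := ((DRing.restrictD φ).mapIso e).symm ≪≫ er P
    let e2 := (DRing.restrictD (ψ.comp φ)).mapIso ((DRing.LBaseChange ψ).mapIso e.symm ≪≫
      lbaseObj ψ P (isKFlat_of_flat hP.above hP.flat)) ≪≫ er' ((DTen.extCx ψ).obj P)
    rw [show DRing.HasTorAmplitudeIn R a b ((DRing.restrictD φ).obj K) ↔ _ from
        ⟨ta_of_iso e1, ta_of_iso e1.symm⟩,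
      show DRing.HasTorAmplitudeIn R a b
          ((DRing.restrictD (ψ.comp φ)).obj ((DRing.LBaseChange ψ).obj K)) ↔ _ from
        ⟨ta_of_iso e2, ta_of_iso e2.symm⟩,
      ta_iff_resolutions ((DTen.resCx φ).obj P) (fun i hi => (exactAt_restrict_iff φ P i).2 (hPx i hi)),
      ta_iff_resolutions ((DTen.resCx (ψ.comp φ)).obj ((DTen.extCx ψ).obj P))
        (fun i hi => (exactAt_restrict_iff (ψ.comp φ) _ i).2 ((hext P i).2 (hPx i hi)))]
    refine forall_congr' fun M => forall_congr' fun S => imp_congr_right fun _ =>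
      imp_congr_right fun _ => forall_congr' fun i => imp_congr_right fun _ => ?_
    rw [exactAt_tensor_res φ P S i, exactAt_tensor_res (ψ.comp φ) ((DTen.extCx ψ).obj P) S i,
      ← hext (P ⊗ (DTen.extCx φ).obj S) i]
    exact exactAt_iff_of_iso (DTen.extTenCxIso ψ P ((DTen.extCx φ).obj S) ≪≫
      whiskerLeftIso ((DTen.extCx ψ).obj P) ((DTen.extCompCx φ ψ).app S)) i
  obtain ⟨X, hX, ⟨eX⟩⟩ : ∃ X : DRing.Cx A, KFlat.IsKFlat (bi A) X ∧ Nonempty (DRing.toD X ≅ K) := by
    let X := DerivedCategory.Q.objPreimage K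
    haveI := H25DTen.quasiIso_resψ X
    exact ⟨(H25DTen.res A).obj X, H25DTen.isKFlat_res X,
      ⟨asIso (DerivedCategory.Q.map ((H25DTen.resψ A).app X)) ≪≫
        DerivedCategory.Q.objObjPreimageIso K⟩⟩
  suffices h : (DRing.HasTorAmplitudeIn R a b ((DRing.restrictD φ).obj K) ∨
      DRing.HasTorAmplitudeIn R a b ((DRing.restrictD (ψ.comp φ)).obj ((DRing.LBaseChange ψ).obj K))) →
      ∀ i, b < i → X.ExactAt i by
    constructor
    · intro hl
      obtain ⟨P, hP, ⟨eP⟩⟩ := exists_projRep fun i hi =>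
        (subsingleton_HD_toD_iff X i).2 (h (Or.inl hl) i hi)
      exact (main P b hP (eP ≪≫ eX)).1 hl
    · intro hr
      obtain ⟨P, hP, ⟨eP⟩⟩ := exists_projRep fun i hi =>
        (subsingleton_HD_toD_iff X i).2 (h (Or.inr hr) i hi)
      exact (main P b hP (eP ≪≫ eX)).2 hr
  rintro (h | h) i hi
  · refine (exactAt_restrict_iff φ X i).1 ((subsingleton_HD_toD_iff _ i).1 ?_)
    haveI := bound_of_ta h i (Or.inr hi)
    exact (PCoh.hEquiv i ((er X).symm ≪≫ (DRing.restrictD φ).mapIso eX)).injective.subsingleton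
  · refine (hext X i).1 ((exactAt_restrict_iff (ψ.comp φ) _ i).1 ((subsingleton_HD_toD_iff _ i).1 ?_))
    haveI := bound_of_ta h i (Or.inr hi)
    exact (PCoh.hEquiv i ((er' _).symm ≪≫ (DRing.restrictD (ψ.comp φ)).mapIso
      ((lbaseObj ψ X hX).symm ≪≫ (DRing.LBaseChange ψ).mapIso eX))).injective.subsingleton

end Groth.Agent.H4DR.TorAmp
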