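import Groth.Agent.H4DR.TorAmp.Descent
import Groth.Agent.H25DTen.Base

/-!
# Tensoring with modules killed by a power of an ideal
-/

set_option autoImplicit false
set_option linter.style.haveILetI false

universe u

open CategoryTheory CategoryTheory.Limits MonoidalCategory TensorProduct
open Groth.Agent.H16Derived

attribute [local instance] HasDerivedCategory.standard

namespace Groth.Agent.H4DR.TorAmp.Killed

open Groth.Agent.H4DR.KFlatMod (bi)

variable {R : Type u} [CommRing R]

/-- The case of modules over the quotient ring. -/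
lemma exactAt_of_quotient (I : Ideal R) {P : DRing.Cx R} (hP : KFlat.IsKFlat (bi R) P)
    (h : ∀ i : ℤ, 0 < i → ((tens (ModuleCat.of R (R ⧸ I))).obj P).ExactAt i)
    (N : ModuleCat.{u} (R ⧸ I)) (i : ℤ) (hi : 0 < i) :
    ((tens ((ModuleCat.restrictScalars.{u} (Ideal.Quotient.mk I)).obj N)).obj P).ExactAt i := by
  let ψ := Ideal.Quotient.mk I
  let W := ((ModuleCat.extendScalars.{u, u, u} ψ).mapHomologicalComplex (ComplexShape.up ℤ)).obj P
  have hW : KFlat.IsKFlat (bi (R ⧸ I)) W := H25DTen.isKFlat_extCx ψ hP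
  let eQ : (ModuleCat.restrictScalars.{u} ψ).obj (ModuleCat.of (R ⧸ I) (R ⧸ I)) ≅ ModuleCat.of R (R ⧸ I) :=
    @LinearEquiv.toModuleIso R _
      ((ModuleCat.restrictScalars.{u} ψ).obj (ModuleCat.of (R ⧸ I) (R ⧸ I))) (ModuleCat.of R (R ⧸ I))
      inferInstance inferInstance
      ((ModuleCat.restrictScalars.{u} ψ).obj (ModuleCat.of (R ⧸ I) (R ⧸ I))).isModule
      (ModuleCat.of R (R ⧸ I)).isModule
      { toFun := fun x => x
        invFun := fun x => x
        map_add' := fun _ _ => rfl
        map_smul' := fun r x => (Algebra.smul_def r (show R ⧸ I from x)).symm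
        left_inv := fun _ => rfl
        right_inv := fun _ => rfl }
  have hWex : ∀ j, 0 < j → W.ExactAt j := fun j hj => by
    rw [← exactAt_restrict_iff ψ]
    exact (h j hj).of_iso ((NatIso.mapHomologicalComplex (H25DTen.extResIso ψ ≪≫
      BraidedCategory.tensorLeftIsoTensorRight _ ≪≫
      (curriedTensor (ModuleCat.{u} R)).flip.mapIso eQ) (ComplexShape.up ℤ)).app P).symm
  obtain ⟨Q, hQ, ⟨e⟩⟩ := exists_projRep (K := DRing.toD W) (c := 0) fun j hj =>
    (subsingleton_HD_toD_iff W j).2 (hWex j hj)
  obtain ⟨f, hf, -⟩ := exists_qis hQ e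
  haveI := hf
  have hq := (quasiIso_tens f (isKFlat_of_flat hQ.above hQ.flat) hW N).quasiIsoAt i
  have hWN : ((tens N).obj W).ExactAt i := by
    rw [HomologicalComplex.exactAt_iff_isZero_homology]
    refine IsZero.of_iso ?_ (@isoOfQuasiIsoAt _ _ _ _ _ _ _ ((tens N).map f) i _ _ hq).symm
    exact ((HomologicalComplex.exactAt_iff _ _).2
      (ShortComplex.exact_of_isZero_X₂ (((tens N).obj Q).sc i)
        ((tensorRight N).map_isZero (hQ.above i hi)))).isZero_homology
  exact ((exactAt_restrict_iff ψ _ i).2 hWN).of_iso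
    ((NatIso.mapHomologicalComplex (extTensIso ψ N) (ComplexShape.up ℤ)).app P)

/-- Modules killed by a power. -/
theorem exactAt_of_pow (I : Ideal R) {P : DRing.Cx R} (hP : KFlat.IsKFlat (bi R) P) (hfl : DRing.TermwiseFlat P)
    (h : ∀ i : ℤ, 0 < i → ((tens (ModuleCat.of R (R ⧸ I))).obj P).ExactAt i) :
    ∀ (n : ℕ) (N : Type u) [AddCommGroup N] [Module R N], I ^ n • (⊤ : Submodule R N) = ⊥ →
      ∀ i : ℤ, 0 < i → ((tens (ModuleCat.of R N)).obj P).ExactAt i := by
  intro n
  induction n with
  | zero =>
    intro N _ _ hN i hi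
    rw [pow_zero, Ideal.one_eq_top, Submodule.top_smul] at hN
    haveI : Subsingleton N := (Submodule.subsingleton_iff R).1 (subsingleton_of_top_le_bot hN.le)
    exact (HomologicalComplex.exactAt_iff _ _).2 (ShortComplex.exact_of_isZero_X₂ _
      ((tensorLeft (P.X i)).map_isZero (ModuleCat.isZero_of_subsingleton (ModuleCat.of R N))))
  | succ n ih =>
    intro N _ _ hN i hi
    let N₁ : Submodule R N := I • ⊤
    have h1 : I ^ n • (⊤ : Submodule R N₁) = ⊥ := by
      apply Submodule.map_injective_of_injective N₁.injective_subtype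
      rw [Submodule.map_smul'', Submodule.map_top, Submodule.range_subtype, Submodule.map_bot, ← hN, pow_succ,
        Submodule.mul_smul]
    letI : Module (R ⧸ I) (N ⧸ N₁) := Module.IsTorsionBySet.module (I := I) fun z a => by
      obtain ⟨z, rfl⟩ := Submodule.Quotient.mk_surjective _ z
      rw [← Submodule.Quotient.mk_smul, Submodule.Quotient.mk_eq_zero]
      exact Submodule.smul_mem_smul a.2 Submodule.mem_top
    let f : ModuleCat.of R N₁ ⟶ ModuleCat.of R N := ModuleCat.ofHom N₁.subtype
    let g : ModuleCat.of R N ⟶ ModuleCat.of R (N ⧸ N₁) := ModuleCat.ofHom N₁.mkQ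
    let τ : ∀ {X Y : ModuleCat.{u} R}, (X ⟶ Y) → ((tens X).obj P ⟶ (tens Y).obj P) := fun k =>
      (NatTrans.mapHomologicalComplex ((curriedTensor (ModuleCat.{u} R)).flip.map k) (ComplexShape.up ℤ)).app P
    have hfg : τ f ≫ τ g = 0 := HomologicalComplex.hom_ext _ _ fun j => by
      show P.X j ◁ f ≫ P.X j ◁ g = 0
      rw [← MonoidalCategory.whiskerLeft_comp, show f ≫ g = 0 from ModuleCat.hom_ext
        (LinearMap.exact_subtype_mkQ N₁).linearMap_comp_eq_zero, MonoidalPreadditive.whiskerLeft_zero]
    let S : ShortComplex (DRing.Cx R) := ShortComplex.mk (τ f) (τ g) hfg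
    have hS : S.ShortExact := HomologicalComplex.shortExact_of_degreewise_shortExact S fun j => by
      haveI := hfl j
      exact ModuleCat.shortComplex_shortExact _ (lTensor_exact (P.X j) (LinearMap.exact_subtype_mkQ N₁)
          N₁.mkQ_surjective) (Module.Flat.lTensor_preserves_injective_linearMap _ N₁.injective_subtype)
        (LinearMap.lTensor_surjective _ N₁.mkQ_surjective)
    rw [HomologicalComplex.exactAt_iff_isZero_homology]
    refine (hS.homology_exact₂ i).isZero_of_both_isZero ?_ ?_
    · exact (ih N₁ h1 i hi).isZero_homology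
    · refine HomologicalComplex.ExactAt.isZero_homology ?_
      refine (exactAt_of_quotient I hP h (ModuleCat.of (R ⧸ I) (N ⧸ N₁)) i hi).of_iso ?_
      refine (NatIso.mapHomologicalComplex ((curriedTensor (ModuleCat.{u} R)).flip.mapIso
        (@LinearEquiv.toModuleIso R _
          ((ModuleCat.restrictScalars.{u} (Ideal.Quotient.mk I)).obj (ModuleCat.of (R ⧸ I) (N ⧸ N₁)))
          (ModuleCat.of R (N ⧸ N₁)) inferInstance inferInstance
          ((ModuleCat.restrictScalars.{u} (Ideal.Quotient.mk I)).obj (ModuleCat.of (R ⧸ I) (N ⧸ N₁))).isModule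
          (ModuleCat.of R (N ⧸ N₁)).isModule
          { toFun := fun x => x
            invFun := fun x => x
            map_add' := fun _ _ => rfl
            map_smul' := fun _ _ => rfl
            left_inv := fun _ => rfl
            right_inv := fun _ => rfl })) (ComplexShape.up ℤ)).app P

end Groth.Agent.H4DR.TorAmp.Killed
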