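import Groth.Agent.H4DR.TorAmp.Descent
import Groth.Agent.H4DR.TorAmp.LTensorCx
import Mathlib.RingTheory.LocalProperties.Basic

/-!
# Tor amplitude from the localizations at the maximal ideals of an algebra
-/

set_option autoImplicit false
set_option linter.style.haveILetI false

universe u

open CategoryTheory CategoryTheory.Limits MonoidalCategory TensorProduct
open Groth.Agent.H16Derived

attribute [local instance] HasDerivedCategory.standard

namespace Groth.Agent.H4DR.TorAmp.LocalMax

open Groth.Agent.H4DR.KFlatMod (bi)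

variable {A B : Type u} [CommRing A] [CommRing B] (φ : A →+* B)

/-- `(y, x) ↦ (B ⊗_A y) ⊗_B x`. -/
noncomputable abbrev F : ModuleCat.{u} A ⥤ ModuleCat.{u} B ⥤ ModuleCat.{u} B :=
  ModuleCat.extendScalars.{u, u, u} φ ⋙ curriedTensor (ModuleCat.{u} B)

instance (y : ModuleCat.{u} A) : ((F φ).obj y).Additive :=
  inferInstanceAs ((curriedTensor (ModuleCat.{u} B)).obj ((ModuleCat.extendScalars.{u, u, u} φ).obj y)).Additive

lemma extTensIso_natural {x x' : ModuleCat.{u} B} (g : x ⟶ x') (y : ModuleCat.{u} A) :
    (ModuleCat.restrictScalars.{u} φ).map ((ModuleCat.extendScalars.{u, u, u} φ).obj y ◁ g) ≫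
        ((extTensIso φ x').app y).hom =
      ((extTensIso φ x).app y).hom ≫ y ◁ (ModuleCat.restrictScalars.{u} φ).map g := by
  refine ModuleCat.hom_ext (LinearMap.ext fun z => ?_)
  induction z using TensorProduct.induction_on with
  | zero => exact (map_zero _).trans (map_zero _).symm
  | add a b ha hb => exact (map_add _ a b).trans ((congrArg₂ (· + ·) ha hb).trans (map_add _ a b).symm)
  | tmul w n =>
    induction w using TensorProduct.induction_on with
    | zero => erw [TensorProduct.zero_tmul]; exact (map_zero _).trans (map_zero _).symm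
    | add a b ha hb =>
      erw [TensorProduct.add_tmul]
      exact (map_add _ _ _).trans ((congrArg₂ (· + ·) ha hb).trans (map_add _ _ _).symm)
    | tmul r y =>
      refine Eq.symm ?_
      exact congrArg (fun t => TensorProduct.tmul A y t) (LinearMap.map_smul g.hom r n)

/-- The `B`-complex `(B ⊗_A Q) ⊗_B K` restricts to `Q ⊗_A K`. -/
noncomputable def isoRestrict (Q : DRing.Cx A) (K : DRing.Cx B) :
    ((ModuleCat.restrictScalars.{u} φ).mapHomologicalComplex (ComplexShape.up ℤ)).obj
        ((KFlat.tot (F φ) Q).obj K) ≅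
      Q ⊗ ((ModuleCat.restrictScalars.{u} φ).mapHomologicalComplex (ComplexShape.up ℤ)).obj K :=
  KFlat.TotCompare.iso (F₁ := F φ) (F₂ := bi A) (G₁ := ModuleCat.restrictScalars.{u} φ)
      (G₂ := 𝟭 (ModuleCat.{u} A)) Q K Q
      (((ModuleCat.restrictScalars.{u} φ).mapHomologicalComplex (ComplexShape.up ℤ)).obj K)
      (fun p q => (extTensIso φ (K.X q)).app (Q.X p))
      (fun p q => (extTensIso φ (K.X q)).hom.naturality (Q.d p (p + 1)))
      (fun p q => extTensIso_natural φ (K.d q (q + 1)) (Q.X p)) ≪≫
    (Functor.mapHomologicalComplexIdIso _ _).app _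

instance (N : ModuleCat.{u} B) (J : Type) :
    PreservesColimitsOfShape (Discrete J) (tensorRight N ⋙ ModuleCat.restrictScalars.{u} φ) :=
  haveI : PreservesColimitsOfShape (Discrete J) (tensorRight N) :=
    preservesColimitsOfShape_of_natIso (BraidedCategory.tensorLeftIsoTensorRight N)
  comp_preservesColimitsOfShape _ _

/-- The same after tensoring with a `B`-module. -/
noncomputable def isoTensor (Q : DRing.Cx A) (K : DRing.Cx B) (N : ModuleCat.{u} B) :
    ((tensorRight N ⋙ ModuleCat.restrictScalars.{u} φ).mapHomologicalComplex (ComplexShape.up ℤ)).obj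
        ((KFlat.tot (F φ) Q).obj K) ≅
      Q ⊗ ((ModuleCat.restrictScalars.{u} φ).mapHomologicalComplex (ComplexShape.up ℤ)).obj
        (((tensorRight N).mapHomologicalComplex (ComplexShape.up ℤ)).obj K) :=
  KFlat.TotCompare.iso (F₁ := F φ) (F₂ := bi A) (G₁ := tensorRight N ⋙ ModuleCat.restrictScalars.{u} φ)
      (G₂ := 𝟭 (ModuleCat.{u} A)) Q K Q
      (((ModuleCat.restrictScalars.{u} φ).mapHomologicalComplex (ComplexShape.up ℤ)).obj
        (((tensorRight N).mapHomologicalComplex (ComplexShape.up ℤ)).obj K))
      (fun p q => (ModuleCat.restrictScalars.{u} φ).mapIso (α_ _ (K.X q) N) ≪≫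
        (extTensIso φ (K.X q ⊗ N)).app (Q.X p))
      (fun p q => by
        dsimp
        rw [← CategoryTheory.Functor.map_comp_assoc, associator_naturality_left,
          CategoryTheory.Functor.map_comp_assoc, Category.assoc]
        exact congrArg _ ((extTensIso φ (K.X q ⊗ N)).hom.naturality (Q.d p (p + 1))))
      (fun p q => by
        dsimp
        rw [← CategoryTheory.Functor.map_comp_assoc, associator_naturality_middle,
          CategoryTheory.Functor.map_comp_assoc, Category.assoc]
        exact congrArg _ (extTensIso_natural φ (K.d q (q + 1) ▷ N) (Q.X p))) ≪≫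
    (Functor.mapHomologicalComplexIdIso _ _).app _

variable {φ}

/-- `M ⊗^L X` through a resolution of `M`, and through a K-flat resolution of `X`. -/
lemma exactAt_tens_iff {K' X Q : DRing.Cx A} (r : K' ⟶ X) [QuasiIso r] (hK' : KFlat.IsKFlat (bi A) K')
    {M : ModuleCat.{u} A} (s : Q ⟶ (CochainComplex.singleFunctor (ModuleCat.{u} A) 0).obj M) [QuasiIso s]
    (hQ : KFlat.IsKFlat (bi A) Q) (i : ℤ) : (Q ⊗ X).ExactAt i ↔ ((tens M).obj K').ExactAt i := by
  let L : DRing.Cx A := (CochainComplex.singleFunctor (ModuleCat.{u} A) 0).obj M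
  haveI h₁ : QuasiIso (Q ◁ r) := H25DTen.quasiIso_whiskerLeft Q hQ r
  haveI h₂ : QuasiIso (s ▷ K') := KFlatMod.quasiIso_whiskerRight hK' s
  let e₃ : L ⊗ K' ≅ (tens M).obj K' :=
    (KFlat.singleLeftIso (bi A) L K' (fun p hp => HomologicalComplex.isZero_single_obj_X _ _ _ _ hp)).symm ≪≫
      (NatIso.mapHomologicalComplex ((curriedTensor (ModuleCat.{u} A)).mapIso
        (HomologicalComplex.singleObjXSelf (ComplexShape.up ℤ) 0 M) ≪≫
          BraidedCategory.tensorLeftIsoTensorRight M) (ComplexShape.up ℤ)).app K'
  simp only [HomologicalComplex.exactAt_iff_isZero_homology]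
  exact ((isoOfQuasiIsoAt (Q ◁ r) i).symm ≪≫ isoOfQuasiIsoAt (s ▷ K') i ≪≫ isoOfQuasiIsoAt e₃.hom i).isZero_iff

/-- Localizations at maximal ideals, as `B`-modules, detect zero. -/
lemma isZero_of_localization (X : ModuleCat.{u} B)
    (h : ∀ (m : Ideal B) [m.IsMaximal],
      IsZero ((tensorRight (ModuleCat.of B (Localization.AtPrime m))).obj X)) :
    IsZero X := by
  refine ModuleCat.isZero_of_iff_subsingleton.2 (Module.subsingleton_of_localization_maximal
    (fun P _ => Localization.AtPrime P ⊗[B] X) (fun P _ => TensorProduct.mk B (Localization.AtPrime P) X 1)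
    fun P _ => ?_)
  haveI : Subsingleton (X ⊗[B] Localization.AtPrime P) := ModuleCat.subsingleton_of_isZero (h P)
  exact (TensorProduct.comm B (Localization.AtPrime P) X).toEquiv.subsingleton

/-- Tor amplitude is local on the maximal ideals of `B`. -/
theorem ta_of_maximal (φ : A →+* B) (K : DRing.Cx B) (a b : ℤ)
    (h : ∀ (m : Ideal B) [m.IsMaximal], DRing.HasTorAmplitudeIn A a b (DRing.toD
      (((ModuleCat.restrictScalars.{u} φ).mapHomologicalComplex (ComplexShape.up ℤ)).obj
        (((tensorRight (ModuleCat.of B (Localization.AtPrime m))).mapHomologicalComplex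
          (ComplexShape.up ℤ)).obj K)))) :
    DRing.HasTorAmplitudeIn A a b (DRing.toD
      (((ModuleCat.restrictScalars.{u} φ).mapHomologicalComplex (ComplexShape.up ℤ)).obj K)) := by
  let res := (ModuleCat.restrictScalars.{u} φ).mapHomologicalComplex (ComplexShape.up ℤ)
  let N : ∀ (m : Ideal B) [m.IsMaximal], ModuleCat.{u} B := fun m _ => ModuleCat.of B (Localization.AtPrime m)
  have key : ∀ (W : DRing.Cx B) (i : ℤ), (∀ (m : Ideal B) [m.IsMaximal],
      (res.obj (((tensorRight (N m)).mapHomologicalComplex (ComplexShape.up ℤ)).obj W)).ExactAt i) →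
      (res.obj W).ExactAt i := fun W i hW => by
    rw [exactAt_restrict_iff, HomologicalComplex.exactAt_iff_isZero_homology]
    refine isZero_of_localization _ fun m _ => ?_
    haveI : Module.Flat B (N m) := IsLocalization.flat (Localization.AtPrime m) m.primeCompl
    obtain ⟨_, _⟩ : PreservesFiniteLimits (tensorRight (N m)) ∧ PreservesFiniteColimits (tensorRight (N m)) :=
      ((Functor.exact_tfae (tensorRight (N m))).out 0 3).1 (KFlatMod.isFlatObj_of_flat (N m))
    exact (exactAt_map_iff (tensorRight (N m)) W i).1 ((exactAt_restrict_iff φ _ i).1 (hW m))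
  have hv : ∀ i, b < i → Subsingleton (Dual.HD A (DRing.toD (res.obj K)) i) := fun i hi => by
    rw [subsingleton_HD_toD_iff]
    exact key K i fun m _ => (subsingleton_HD_toD_iff _ i).1 (bound_of_ta (h m) i (Or.inr hi))
  obtain ⟨P, hP, ⟨e⟩⟩ := exists_projRep hv
  obtain ⟨r, hr, -⟩ := exists_qis hP e
  haveI := hr
  refine ta_of_tv ⟨P, b, hP, ⟨e⟩, fun M i hi => ?_⟩
  obtain ⟨Q, s, hQ, -, hs, -⟩ :=
    KFlatMod.exists_resolution ((CochainComplex.singleFunctor (ModuleCat.{u} A) 0).obj M)
  haveI := hs
  refine (exactAt_tens_iff r (isKFlat_of_flat hP.above hP.flat) s hQ i).1 ?_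
  refine ((key ((KFlat.tot (F φ) Q).obj K) i fun m _ => ?_)).of_iso (isoRestrict φ Q K)
  refine HomologicalComplex.ExactAt.of_iso ?_ (isoTensor φ Q K (N m)).symm
  have hTA := h m
  obtain ⟨P', hP', ⟨e'⟩⟩ := exists_projRep (fun j hj => bound_of_ta hTA j (Or.inr hj))
  obtain ⟨r', hr', -⟩ := exists_qis hP' e'
  haveI := hr'
  exact (exactAt_tens_iff r' (isKFlat_of_flat hP'.above hP'.flat) s hQ i).2
    ((tv_of_ta hTA).exactAt hP'.above hP'.flat e' M hi)

end Groth.Agent.H4DR.TorAmp.LocalMax

namespace Groth.Agent.H4DR.TorAmp.LocalMax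

variable {A B : Type u} [CommRing A] [CommRing B]

/-- Restrictions along the two sides of a commutative square of rings agree. -/
noncomputable def restrictSquareIso {A' C : Type u} [CommRing A'] [CommRing C] (f : A →+* A') (g : A' →+* C)
    (f' : A →+* B) (g' : B →+* C) (h : g.comp f = g'.comp f') :
    ModuleCat.restrictScalars.{u} g ⋙ ModuleCat.restrictScalars.{u} f ≅
      ModuleCat.restrictScalars.{u} g' ⋙ ModuleCat.restrictScalars.{u} f' :=
  NatIso.ofComponents (fun X => @LinearEquiv.toModuleIso A _
      ((ModuleCat.restrictScalars.{u} f).obj ((ModuleCat.restrictScalars.{u} g).obj X))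
      ((ModuleCat.restrictScalars.{u} f').obj ((ModuleCat.restrictScalars.{u} g').obj X))
      inferInstance inferInstance
      ((ModuleCat.restrictScalars.{u} f).obj ((ModuleCat.restrictScalars.{u} g).obj X)).isModule
      ((ModuleCat.restrictScalars.{u} f').obj ((ModuleCat.restrictScalars.{u} g').obj X)).isModule
    { toFun := fun x => x
      invFun := fun x => x
      map_add' := fun _ _ => rfl
      map_smul' := fun r x => congrArg (fun c : C => c • (show X from x)) (RingHom.congr_fun h r)
      left_inv := fun _ => rfl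
      right_inv := fun _ => rfl }) (fun _ => rfl)

/-- The localization functor is tensoring with the localization. -/
noncomputable def localIso (m : Ideal B) [m.IsPrime] :
    ModuleCat.extendScalars.{u, u, u} (algebraMap B (Localization.AtPrime m)) ⋙
        ModuleCat.restrictScalars.{u} (algebraMap B (Localization.AtPrime m)) ≅
      tensorRight (ModuleCat.of B (Localization.AtPrime m)) :=
  let ψ := algebraMap B (Localization.AtPrime m)
  H25DTen.extResIso ψ ≪≫ BraidedCategory.tensorLeftIsoTensorRight _ ≪≫
    (curriedTensor (ModuleCat.{u} B)).flip.mapIso (@LinearEquiv.toModuleIso B _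
        ((ModuleCat.restrictScalars.{u} ψ).obj (ModuleCat.of (Localization.AtPrime m) (Localization.AtPrime m)))
        (ModuleCat.of B (Localization.AtPrime m)) inferInstance inferInstance
        ((ModuleCat.restrictScalars.{u} ψ).obj (ModuleCat.of (Localization.AtPrime m) (Localization.AtPrime m))).isModule
        (ModuleCat.of B (Localization.AtPrime m)).isModule
      { toFun := fun x => x
        invFun := fun x => x
        map_add' := fun _ _ => rfl
        map_smul' := fun r x => (Algebra.smul_def r (show Localization.AtPrime m from x)).symm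
        left_inv := fun _ => rfl
        right_inv := fun _ => rfl })

end Groth.Agent.H4DR.TorAmp.LocalMax
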